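import Mathlib
import Cfsg.Agent.Helper3.M24B.Chk
import Cfsg.Agent.Helper3.BlkBridge
import Cfsg.Agent.Helper9.Out.M24Out
import Cfsg.Agent.S0374

set_option autoImplicit false

/-! The group of the tables on 24 points is the Mathieu group of degree 24. -/

noncomputable section

namespace Cfsg.Agent.Helper3.M24B

open Cfsg Cfsg.Agent.Helper9.OutG Cfsg.Agent.Helper9.J3 Cfsg.Agent.Helper9.Golay
  Cfsg.Agent.Helper3.BlkBridge Cfsg.Agent.Helper9.OutM24

theorem dn : dD.n = 24 := rfl

theorem hn24 : 24 ≤ dD.n := by decide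

theorem hL24 : ∀ l, l < dD.L → ∀ x, x < 24 → T dD l x < 24 := by
  intro l _ x hx
  exact T_lt dD core.tab l hx

/-- the elements are determined by their action on the 24 points. -/
theorem faithful (g : ↥(GS core)) (hg : ∀ x : Fin dD.n, x.val < 24 → g.1 x = x) : g = 1 := by
  apply Subtype.ext
  apply Equiv.ext
  intro y
  exact hg y y.isLt

set_option maxRecDepth 1000000 in
set_option maxHeartbeats 0 in
theorem tab0 : ∀ x : Fin 24, T dD 0 x.val = (tblOf (stepFun 0)).getD x.val 0 := by decide +kernel

set_option maxRecDepth 1000000 in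
set_option maxHeartbeats 0 in
theorem tab2 : ∀ x : Fin 24, T dD 2 x.val = (tblOf (stepFun 1)).getD x.val 0 := by decide +kernel

set_option maxRecDepth 1000000 in
set_option maxHeartbeats 0 in
theorem tab3 : ∀ x : Fin 24, T dD 3 x.val = (tblOf (stepFun 2)).getD x.val 0 := by decide +kernel

theorem iv0 : ivI dD 0 = 1 := by decide +kernel

theorem iv3 : ivI dD 3 = 4 := by decide +kernel

theorem res0 : res core hn24 hL24 (gE core 0) = stepPerm 0 :=
  res_gE core hn24 hL24 (isTbl_step 0) 0 (fun x hx => tab0 ⟨x, hx⟩)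

theorem res2 : res core hn24 hL24 (gE core 2) = stepPerm 1 :=
  res_gE core hn24 hL24 (isTbl_step 1) 2 (fun x hx => tab2 ⟨x, hx⟩)

theorem res3 : res core hn24 hL24 (gE core 3) = stepPerm 2 :=
  res_gE core hn24 hL24 (isTbl_step 2) 3 (fun x hx => tab3 ⟨x, hx⟩)

theorem res1 : res core hn24 hL24 (gE core 1) = (stepPerm 0)⁻¹ := by
  have : gE core 1 = (gE core 0)⁻¹ := by rw [gE_inv, iv0]
  rw [this, map_inv, res0]

theorem res4 : res core hn24 hL24 (gE core 4) = (stepPerm 2)⁻¹ := by
  have : gE core 4 = (gE core 3)⁻¹ := by rw [gE_inv, iv3]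
  rw [this, map_inv, res3]

theorem closure_step : Subgroup.closure ({stepPerm 0, stepPerm 1, stepPerm 2} :
    Set (Equiv.Perm GolayPt)) = M24 := Cfsg.Agent.S0374.result

theorem closure_res : Subgroup.closure (Set.range fun l : Fin dD.L =>
    res core hn24 hL24 (gE core l.val)) = M24 := by
  rw [← closure_step]
  apply le_antisymm
  · rw [Subgroup.closure_le]
    rintro σ ⟨l, rfl⟩
    have hl : l.val < 5 := l.isLt
    have h5 : l.val = 0 ∨ l.val = 1 ∨ l.val = 2 ∨ l.val = 3 ∨ l.val = 4 := by omega
    show res core hn24 hL24 (gE core l.val) ∈ _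
    rcases h5 with e | e | e | e | e
    · rw [e, res0]
      exact Subgroup.subset_closure (by simp)
    · rw [e, res1]
      exact Subgroup.inv_mem _ (Subgroup.subset_closure (by simp))
    · rw [e, res2]
      exact Subgroup.subset_closure (by simp)
    · rw [e, res3]
      exact Subgroup.subset_closure (by simp)
    · rw [e, res4]
      exact Subgroup.inv_mem _ (Subgroup.subset_closure (by simp))
  · rw [Subgroup.closure_le]
    intro σ hσ
    rcases hσ with rfl | rfl | rfl
    · rw [← res0]
      exact Subgroup.subset_closure ⟨⟨0, by decide⟩, rfl⟩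
    · rw [← res2]
      exact Subgroup.subset_closure ⟨⟨2, by decide⟩, rfl⟩
    · rw [← res3]
      exact Subgroup.subset_closure ⟨⟨3, by decide⟩, rfl⟩

/-- the group of the tables is the Mathieu group of degree 24. -/
def GSEquivM24 : ↥(GS core) ≃* ↥M24 :=
  equivOfFaithful core hn24 hL24 M24 closure_res faithful

theorem card_GS : Nat.card ↥(GS core) = 244823040 := by
  rw [Nat.card_congr GSEquivM24.toEquiv]
  exact card_M24

end Cfsg.Agent.Helper3.M24B

end
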