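import Mathlib
import Cfsg.Agent.Helper3.M24B.Data
import Cfsg.Agent.Helper3.BlkRoots

set_option autoImplicit false

/-! Kernel checks of the certificates, the square roots for a column. -/

noncomputable section

namespace Cfsg.Agent.Helper3.M24B

open Cfsg.Agent.Helper9.OutG Cfsg.Agent.Helper9.J3 Cfsg.Agent.Helper3.BlkInv Cfsg.Agent.Helper3.BlkRoots

set_option maxRecDepth 1000000 in
set_option maxHeartbeats 0 in
theorem root15 : rootChk dD dC.bs (tget dD.tree 1028) dL15 0 72057594037927936 = true := by decide +kernel

set_option maxRecDepth 1000000 in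
set_option maxHeartbeats 0 in
theorem par15 : Nat.beq (parF dD dCodes dDs 20 (tget dD.tree 1025) dL15) 0 = true := by decide +kernel

set_option maxRecDepth 1000000 in
set_option maxHeartbeats 0 in
theorem len15 : dL15.length = 0 := by decide +kernel

end Cfsg.Agent.Helper3.M24B

end
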