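import Mathlib
import Cfsg.Agent.Helper3.M24B.Data
import Cfsg.Agent.Helper3.BlkRoots

set_option autoImplicit false

/-! Kernel checks of the certificates, the types of the representatives. -/

noncomputable section

namespace Cfsg.Agent.Helper3.M24B

open Cfsg.Agent.Helper9.OutG Cfsg.Agent.Helper9.J3 Cfsg.Agent.Helper3.BlkInv Cfsg.Agent.Helper3.BlkRoots

set_option maxRecDepth 1000000 in
set_option maxHeartbeats 0 in
theorem tyrep0 : Nat.beq (tyN dCodes dDs 20 (pcodeF (T dD 25) dD.n dDs)) 0 = true := by decide +kernel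

set_option maxRecDepth 1000000 in
set_option maxHeartbeats 0 in
theorem tyrep1 : Nat.beq (tyN dCodes dDs 20 (pcodeF (T dD dT1.ky) dD.n dDs)) 1 = true := by decide +kernel

set_option maxRecDepth 1000000 in
set_option maxHeartbeats 0 in
theorem tysq1 : Nat.beq (tyN dCodes dDs 20 (pcodeF (T dD (nthN dT1.ks 0)) dD.n dDs)) 0 = true := by decide +kernel

set_option maxRecDepth 1000000 in
set_option maxHeartbeats 0 in
theorem cj1 : allB (fun x => Nat.beq (T dD 25 (T dD dT1.ky x)) (T dD (nthN dT1.ks 1) (T dD 25 x))) dD.n = true := by decide +kernel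

set_option maxRecDepth 1000000 in
set_option maxHeartbeats 0 in
theorem tyz1 : Nat.beq (tyN dCodes dDs 20 (pcodeF (T dD 26) dD.n dDs)) 1 = true := by decide +kernel

set_option maxRecDepth 1000000 in
set_option maxHeartbeats 0 in
theorem tyrep2 : Nat.beq (tyN dCodes dDs 20 (pcodeF (T dD dT2.ky) dD.n dDs)) 2 = true := by decide +kernel

set_option maxRecDepth 1000000 in
set_option maxHeartbeats 0 in
theorem tysq2 : Nat.beq (tyN dCodes dDs 20 (pcodeF (T dD (nthN dT2.ks 0)) dD.n dDs)) 0 = true := by decide +kernel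

set_option maxRecDepth 1000000 in
set_option maxHeartbeats 0 in
theorem cj2 : allB (fun x => Nat.beq (T dD 25 (T dD dT2.ky x)) (T dD (nthN dT2.ks 1) (T dD 25 x))) dD.n = true := by decide +kernel

set_option maxRecDepth 1000000 in
set_option maxHeartbeats 0 in
theorem tyz2 : Nat.beq (tyN dCodes dDs 20 (pcodeF (T dD 27) dD.n dDs)) 2 = true := by decide +kernel

set_option maxRecDepth 1000000 in
set_option maxHeartbeats 0 in
theorem tyrep3 : Nat.beq (tyN dCodes dDs 20 (pcodeF (T dD dT3.ky) dD.n dDs)) 3 = true := by decide +kernel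

set_option maxRecDepth 1000000 in
set_option maxHeartbeats 0 in
theorem tysq3 : Nat.beq (tyN dCodes dDs 20 (pcodeF (T dD (nthN dT3.ks 2)) dD.n dDs)) 3 = true := by decide +kernel

set_option maxRecDepth 1000000 in
set_option maxHeartbeats 0 in
theorem cj3 : allB (fun x => Nat.beq (T dD 25 (T dD dT3.ky x)) (T dD (nthN dT3.ks 1) (T dD 25 x))) dD.n = true := by decide +kernel

set_option maxRecDepth 1000000 in
set_option maxHeartbeats 0 in
theorem tyz3 : Nat.beq (tyN dCodes dDs 20 (pcodeF (T dD 25) dD.n dDs)) 0 = true := by decide +kernel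

set_option maxRecDepth 1000000 in
set_option maxHeartbeats 0 in
theorem tyrep4 : Nat.beq (tyN dCodes dDs 20 (pcodeF (T dD dT4.ky) dD.n dDs)) 4 = true := by decide +kernel

set_option maxRecDepth 1000000 in
set_option maxHeartbeats 0 in
theorem tysq4 : Nat.beq (tyN dCodes dDs 20 (pcodeF (T dD (nthN dT4.ks 2)) dD.n dDs)) 4 = true := by decide +kernel

set_option maxRecDepth 1000000 in
set_option maxHeartbeats 0 in
theorem cj4 : allB (fun x => Nat.beq (T dD 25 (T dD dT4.ky x)) (T dD (nthN dT4.ks 1) (T dD 25 x))) dD.n = true := by decide +kernel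

set_option maxRecDepth 1000000 in
set_option maxHeartbeats 0 in
theorem tyz4 : Nat.beq (tyN dCodes dDs 20 (pcodeF (T dD 25) dD.n dDs)) 0 = true := by decide +kernel

set_option maxRecDepth 1000000 in
set_option maxHeartbeats 0 in
theorem tyrep5 : Nat.beq (tyN dCodes dDs 20 (pcodeF (T dD dT5.ky) dD.n dDs)) 5 = true := by decide +kernel

set_option maxRecDepth 1000000 in
set_option maxHeartbeats 0 in
theorem tysq5 : Nat.beq (tyN dCodes dDs 20 (pcodeF (T dD (nthN dT5.ks 2)) dD.n dDs)) 1 = true := by decide +kernel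

set_option maxRecDepth 1000000 in
set_option maxHeartbeats 0 in
theorem cj5 : allB (fun x => Nat.beq (T dD 25 (T dD dT5.ky x)) (T dD (nthN dT5.ks 1) (T dD 25 x))) dD.n = true := by decide +kernel

set_option maxRecDepth 1000000 in
set_option maxHeartbeats 0 in
theorem tyz5 : Nat.beq (tyN dCodes dDs 20 (pcodeF (T dD 960) dD.n dDs)) 5 = true := by decide +kernel

set_option maxRecDepth 1000000 in
set_option maxHeartbeats 0 in
theorem tyrep6 : Nat.beq (tyN dCodes dDs 20 (pcodeF (T dD dT6.ky) dD.n dDs)) 6 = true := by decide +kernel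

set_option maxRecDepth 1000000 in
set_option maxHeartbeats 0 in
theorem tysq6 : Nat.beq (tyN dCodes dDs 20 (pcodeF (T dD (nthN dT6.ks 2)) dD.n dDs)) 2 = true := by decide +kernel

set_option maxRecDepth 1000000 in
set_option maxHeartbeats 0 in
theorem cj6 : allB (fun x => Nat.beq (T dD 25 (T dD dT6.ky x)) (T dD (nthN dT6.ks 1) (T dD 25 x))) dD.n = true := by decide +kernel

set_option maxRecDepth 1000000 in
set_option maxHeartbeats 0 in
theorem tyz6 : Nat.beq (tyN dCodes dDs 20 (pcodeF (T dD 963) dD.n dDs)) 6 = true := by decide +kernel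

set_option maxRecDepth 1000000 in
set_option maxHeartbeats 0 in
theorem tyrep7 : Nat.beq (tyN dCodes dDs 20 (pcodeF (T dD dT7.ky) dD.n dDs)) 7 = true := by decide +kernel

set_option maxRecDepth 1000000 in
set_option maxHeartbeats 0 in
theorem tysq7 : Nat.beq (tyN dCodes dDs 20 (pcodeF (T dD (nthN dT7.ks 2)) dD.n dDs)) 2 = true := by decide +kernel

set_option maxRecDepth 1000000 in
set_option maxHeartbeats 0 in
theorem cj7 : allB (fun x => Nat.beq (T dD 25 (T dD dT7.ky x)) (T dD (nthN dT7.ks 1) (T dD 25 x))) dD.n = true := by decide +kernel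

set_option maxRecDepth 1000000 in
set_option maxHeartbeats 0 in
theorem tyz7 : Nat.beq (tyN dCodes dDs 20 (pcodeF (T dD 966) dD.n dDs)) 7 = true := by decide +kernel

set_option maxRecDepth 1000000 in
set_option maxHeartbeats 0 in
theorem tyrep8 : Nat.beq (tyN dCodes dDs 20 (pcodeF (T dD dT8.ky) dD.n dDs)) 8 = true := by decide +kernel

set_option maxRecDepth 1000000 in
set_option maxHeartbeats 0 in
theorem tysq8 : Nat.beq (tyN dCodes dDs 20 (pcodeF (T dD (nthN dT8.ks 2)) dD.n dDs)) 8 = true := by decide +kernel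

set_option maxRecDepth 1000000 in
set_option maxHeartbeats 0 in
theorem cj8 : allB (fun x => Nat.beq (T dD 973 (T dD dT8.ky x)) (T dD (nthN dT8.ks 2) (T dD 973 x))) dD.n = true := by decide +kernel

set_option maxRecDepth 1000000 in
set_option maxHeartbeats 0 in
theorem tyz8 : Nat.beq (tyN dCodes dDs 20 (pcodeF (T dD 25) dD.n dDs)) 0 = true := by decide +kernel

set_option maxRecDepth 1000000 in
set_option maxHeartbeats 0 in
theorem tyrep9 : Nat.beq (tyN dCodes dDs 20 (pcodeF (T dD dT9.ky) dD.n dDs)) 9 = true := by decide +kernel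

set_option maxRecDepth 1000000 in
set_option maxHeartbeats 0 in
theorem tysq9 : Nat.beq (tyN dCodes dDs 20 (pcodeF (T dD (nthN dT9.ks 2)) dD.n dDs)) 3 = true := by decide +kernel

set_option maxRecDepth 1000000 in
set_option maxHeartbeats 0 in
theorem cj9 : allB (fun x => Nat.beq (T dD 25 (T dD dT9.ky x)) (T dD (nthN dT9.ks 1) (T dD 25 x))) dD.n = true := by decide +kernel

set_option maxRecDepth 1000000 in
set_option maxHeartbeats 0 in
theorem tyz9 : Nat.beq (tyN dCodes dDs 20 (pcodeF (T dD 979) dD.n dDs)) 1 = true := by decide +kernel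

set_option maxRecDepth 1000000 in
set_option maxHeartbeats 0 in
theorem tyrep10 : Nat.beq (tyN dCodes dDs 20 (pcodeF (T dD dT10.ky) dD.n dDs)) 10 = true := by decide +kernel

set_option maxRecDepth 1000000 in
set_option maxHeartbeats 0 in
theorem tysq10 : Nat.beq (tyN dCodes dDs 20 (pcodeF (T dD (nthN dT10.ks 2)) dD.n dDs)) 4 = true := by decide +kernel

set_option maxRecDepth 1000000 in
set_option maxHeartbeats 0 in
theorem cj10 : allB (fun x => Nat.beq (T dD 25 (T dD dT10.ky x)) (T dD (nthN dT10.ks 1) (T dD 25 x))) dD.n = true := by decide +kernel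

set_option maxRecDepth 1000000 in
set_option maxHeartbeats 0 in
theorem tyz10 : Nat.beq (tyN dCodes dDs 20 (pcodeF (T dD 984) dD.n dDs)) 2 = true := by decide +kernel

set_option maxRecDepth 1000000 in
set_option maxHeartbeats 0 in
theorem tyrep11 : Nat.beq (tyN dCodes dDs 20 (pcodeF (T dD dT11.ky) dD.n dDs)) 11 = true := by decide +kernel

set_option maxRecDepth 1000000 in
set_option maxHeartbeats 0 in
theorem tysq11 : Nat.beq (tyN dCodes dDs 20 (pcodeF (T dD (nthN dT11.ks 2)) dD.n dDs)) 11 = true := by decide +kernel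

set_option maxRecDepth 1000000 in
set_option maxHeartbeats 0 in
theorem cj11 : allB (fun x => Nat.beq (T dD 991 (T dD dT11.ky x)) (T dD (nthN dT11.ks 2) (T dD 991 x))) dD.n = true := by decide +kernel

set_option maxRecDepth 1000000 in
set_option maxHeartbeats 0 in
theorem tyz11 : Nat.beq (tyN dCodes dDs 20 (pcodeF (T dD 25) dD.n dDs)) 0 = true := by decide +kernel

set_option maxRecDepth 1000000 in
set_option maxHeartbeats 0 in
theorem tyrep12 : Nat.beq (tyN dCodes dDs 20 (pcodeF (T dD dT12.ky) dD.n dDs)) 12 = true := by decide +kernel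

set_option maxRecDepth 1000000 in
set_option maxHeartbeats 0 in
theorem tysq12 : Nat.beq (tyN dCodes dDs 20 (pcodeF (T dD (nthN dT12.ks 2)) dD.n dDs)) 7 = true := by decide +kernel

set_option maxRecDepth 1000000 in
set_option maxHeartbeats 0 in
theorem cj12 : allB (fun x => Nat.beq (T dD 1000 (T dD dT12.ky x)) (T dD (nthN dT12.ks 3) (T dD 1000 x))) dD.n = true := by decide +kernel

set_option maxRecDepth 1000000 in
set_option maxHeartbeats 0 in
theorem tyz12 : Nat.beq (tyN dCodes dDs 20 (pcodeF (T dD 993) dD.n dDs)) 12 = true := by decide +kernel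

set_option maxRecDepth 1000000 in
set_option maxHeartbeats 0 in
theorem tyrep13 : Nat.beq (tyN dCodes dDs 20 (pcodeF (T dD dT13.ky) dD.n dDs)) 13 = true := by decide +kernel

set_option maxRecDepth 1000000 in
set_option maxHeartbeats 0 in
theorem tysq13 : Nat.beq (tyN dCodes dDs 20 (pcodeF (T dD (nthN dT13.ks 2)) dD.n dDs)) 8 = true := by decide +kernel

set_option maxRecDepth 1000000 in
set_option maxHeartbeats 0 in
theorem cj13 : allB (fun x => Nat.beq (T dD 1010 (T dD dT13.ky x)) (T dD (nthN dT13.ks 3) (T dD 1010 x))) dD.n = true := by decide +kernel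

set_option maxRecDepth 1000000 in
set_option maxHeartbeats 0 in
theorem tyz13 : Nat.beq (tyN dCodes dDs 20 (pcodeF (T dD 1009) dD.n dDs)) 1 = true := by decide +kernel

set_option maxRecDepth 1000000 in
set_option maxHeartbeats 0 in
theorem tyrep14 : Nat.beq (tyN dCodes dDs 20 (pcodeF (T dD dT14.ky) dD.n dDs)) 14 = true := by decide +kernel

set_option maxRecDepth 1000000 in
set_option maxHeartbeats 0 in
theorem tysq14 : Nat.beq (tyN dCodes dDs 20 (pcodeF (T dD (nthN dT14.ks 2)) dD.n dDs)) 14 = true := by decide +kernel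

set_option maxRecDepth 1000000 in
set_option maxHeartbeats 0 in
theorem cj14 : allB (fun x => Nat.beq (T dD 1022 (T dD dT14.ky x)) (T dD (nthN dT14.ks 2) (T dD 1022 x))) dD.n = true := by decide +kernel

set_option maxRecDepth 1000000 in
set_option maxHeartbeats 0 in
theorem tyz14 : Nat.beq (tyN dCodes dDs 20 (pcodeF (T dD 25) dD.n dDs)) 0 = true := by decide +kernel

set_option maxRecDepth 1000000 in
set_option maxHeartbeats 0 in
theorem tyrep15 : Nat.beq (tyN dCodes dDs 20 (pcodeF (T dD dT15.ky) dD.n dDs)) 15 = true := by decide +kernel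

set_option maxRecDepth 1000000 in
set_option maxHeartbeats 0 in
theorem tysq15 : Nat.beq (tyN dCodes dDs 20 (pcodeF (T dD (nthN dT15.ks 2)) dD.n dDs)) 9 = true := by decide +kernel

set_option maxRecDepth 1000000 in
set_option maxHeartbeats 0 in
theorem cj15 : allB (fun x => Nat.beq (T dD 1035 (T dD dT15.ky x)) (T dD (nthN dT15.ks 5) (T dD 1035 x))) dD.n = true := by decide +kernel

set_option maxRecDepth 1000000 in
set_option maxHeartbeats 0 in
theorem tyz15 : Nat.beq (tyN dCodes dDs 20 (pcodeF (T dD 1028) dD.n dDs)) 5 = true := by decide +kernel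

set_option maxRecDepth 1000000 in
set_option maxHeartbeats 0 in
theorem tyrep16 : Nat.beq (tyN dCodes dDs 20 (pcodeF (T dD dT16.ky) dD.n dDs)) 16 = true := by decide +kernel

set_option maxRecDepth 1000000 in
set_option maxHeartbeats 0 in
theorem tysq16 : Nat.beq (tyN dCodes dDs 20 (pcodeF (T dD (nthN dT16.ks 2)) dD.n dDs)) 10 = true := by decide +kernel

set_option maxRecDepth 1000000 in
set_option maxHeartbeats 0 in
theorem cj16 : allB (fun x => Nat.beq (T dD 1047 (T dD dT16.ky x)) (T dD (nthN dT16.ks 5) (T dD 1047 x))) dD.n = true := by decide +kernel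

set_option maxRecDepth 1000000 in
set_option maxHeartbeats 0 in
theorem tyz16 : Nat.beq (tyN dCodes dDs 20 (pcodeF (T dD 1040) dD.n dDs)) 6 = true := by decide +kernel

set_option maxRecDepth 1000000 in
set_option maxHeartbeats 0 in
theorem tyrep17 : Nat.beq (tyN dCodes dDs 20 (pcodeF (T dD dT17.ky) dD.n dDs)) 17 = true := by decide +kernel

set_option maxRecDepth 1000000 in
set_option maxHeartbeats 0 in
theorem tysq17 : Nat.beq (tyN dCodes dDs 20 (pcodeF (T dD (nthN dT17.ks 2)) dD.n dDs)) 11 = true := by decide +kernel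

set_option maxRecDepth 1000000 in
set_option maxHeartbeats 0 in
theorem cj17 : allB (fun x => Nat.beq (T dD 1061 (T dD dT17.ky x)) (T dD (nthN dT17.ks 9) (T dD 1061 x))) dD.n = true := by decide +kernel

set_option maxRecDepth 1000000 in
set_option maxHeartbeats 0 in
theorem tyz17 : Nat.beq (tyN dCodes dDs 20 (pcodeF (T dD 1060) dD.n dDs)) 2 = true := by decide +kernel

set_option maxRecDepth 1000000 in
set_option maxHeartbeats 0 in
theorem tyrep18 : Nat.beq (tyN dCodes dDs 20 (pcodeF (T dD dT18.ky) dD.n dDs)) 18 = true := by decide +kernel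

set_option maxRecDepth 1000000 in
set_option maxHeartbeats 0 in
theorem tysq18 : Nat.beq (tyN dCodes dDs 20 (pcodeF (T dD (nthN dT18.ks 2)) dD.n dDs)) 18 = true := by decide +kernel

set_option maxRecDepth 1000000 in
set_option maxHeartbeats 0 in
theorem cj18 : allB (fun x => Nat.beq (T dD 1075 (T dD dT18.ky x)) (T dD (nthN dT18.ks 2) (T dD 1075 x))) dD.n = true := by decide +kernel

set_option maxRecDepth 1000000 in
set_option maxHeartbeats 0 in
theorem tyz18 : Nat.beq (tyN dCodes dDs 20 (pcodeF (T dD 25) dD.n dDs)) 0 = true := by decide +kernel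

set_option maxRecDepth 1000000 in
set_option maxHeartbeats 0 in
theorem tyrep19 : Nat.beq (tyN dCodes dDs 20 (pcodeF (T dD dT19.ky) dD.n dDs)) 19 = true := by decide +kernel

set_option maxRecDepth 1000000 in
set_option maxHeartbeats 0 in
theorem tysq19 : Nat.beq (tyN dCodes dDs 20 (pcodeF (T dD (nthN dT19.ks 2)) dD.n dDs)) 19 = true := by decide +kernel

set_option maxRecDepth 1000000 in
set_option maxHeartbeats 0 in
theorem cj19 : allB (fun x => Nat.beq (T dD 1097 (T dD dT19.ky x)) (T dD (nthN dT19.ks 2) (T dD 1097 x))) dD.n = true := by decide +kernel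

set_option maxRecDepth 1000000 in
set_option maxHeartbeats 0 in
theorem tyz19 : Nat.beq (tyN dCodes dDs 20 (pcodeF (T dD 25) dD.n dDs)) 0 = true := by decide +kernel

set_option maxRecDepth 1000000 in
set_option maxHeartbeats 0 in
theorem tyrep20 : Nat.beq (tyN dCodes dDs 20 (pcodeF (T dD dT20.ky) dD.n dDs)) 20 = true := by decide +kernel

set_option maxRecDepth 1000000 in
set_option maxHeartbeats 0 in
theorem tysq20 : Nat.beq (tyN dCodes dDs 20 (pcodeF (T dD (nthN dT20.ks 2)) dD.n dDs)) 20 = true := by decide +kernel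

set_option maxRecDepth 1000000 in
set_option maxHeartbeats 0 in
theorem cj20 : allB (fun x => Nat.beq (T dD 1121 (T dD dT20.ky x)) (T dD (nthN dT20.ks 2) (T dD 1121 x))) dD.n = true := by decide +kernel

set_option maxRecDepth 1000000 in
set_option maxHeartbeats 0 in
theorem tyz20 : Nat.beq (tyN dCodes dDs 20 (pcodeF (T dD 25) dD.n dDs)) 0 = true := by decide +kernel

end Cfsg.Agent.Helper3.M24B

end
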