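import Mathlib
import Cfsg.Agent.Helper3.BlkStore
import Cfsg.Agent.Helper3.M24B.StoreT0
import Cfsg.Agent.Helper3.M24B.StoreT1
import Cfsg.Agent.Helper3.M24B.StoreT2
import Cfsg.Agent.Helper3.M24B.StoreT3
import Cfsg.Agent.Helper3.M24B.StoreT4
import Cfsg.Agent.Helper3.M24B.StoreT5
import Cfsg.Agent.Helper3.M24B.StoreT6
import Cfsg.Agent.Helper3.M24B.StoreT7
import Cfsg.Agent.Helper3.M24B.StoreT8
import Cfsg.Agent.Helper3.M24B.StoreT9
import Cfsg.Agent.Helper3.M24B.StoreT10
import Cfsg.Agent.Helper3.M24B.StoreT11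
import Cfsg.Agent.Helper3.M24B.StoreT12
import Cfsg.Agent.Helper3.M24B.StoreT13
import Cfsg.Agent.Helper3.M24B.StoreT14
import Cfsg.Agent.Helper3.M24B.StoreT15
import Cfsg.Agent.Helper3.M24B.StoreT16
import Cfsg.Agent.Helper3.M24B.StoreT17
import Cfsg.Agent.Helper3.M24B.StoreT18
import Cfsg.Agent.Helper3.M24B.StoreT19
import Cfsg.Agent.Helper3.M24B.StoreT20
import Cfsg.Agent.Helper3.M24B.StoreT21
import Cfsg.Agent.Helper3.M24B.StoreT22
import Cfsg.Agent.Helper3.M24B.StoreT23
import Cfsg.Agent.Helper3.M24B.StoreT24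
import Cfsg.Agent.Helper3.M24B.StoreT25
import Cfsg.Agent.Helper3.M24B.StoreT26
import Cfsg.Agent.Helper3.M24B.StoreT27
import Cfsg.Agent.Helper3.M24B.StoreT28
import Cfsg.Agent.Helper3.M24B.StoreT29
import Cfsg.Agent.Helper3.M24B.StoreT30
import Cfsg.Agent.Helper3.M24B.StoreT31

set_option autoImplicit false
set_option maxRecDepth 100000

/-! The store of the elements of order at most 2. -/

noncomputable section

namespace Cfsg.Agent.Helper3.M24B

open Cfsg.Agent.Helper9.OutG Cfsg.Agent.Helper3.BlkStore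

/-- the tree of the leaves of the store. -/
noncomputable def dSTree : NTree :=
  (NTree.node (NTree.node (NTree.node (NTree.node (NTree.node dST0 dST1) (NTree.node dST2 dST3)) (NTree.node (NTree.node dST4 dST5) (NTree.node dST6 dST7))) (NTree.node (NTree.node (NTree.node dST8 dST9) (NTree.node dST10 dST11)) (NTree.node (NTree.node dST12 dST13) (NTree.node dST14 dST15)))) (NTree.node (NTree.node (NTree.node (NTree.node dST16 dST17) (NTree.node dST18 dST19)) (NTree.node (NTree.node dST20 dST21) (NTree.node dST22 dST23))) (NTree.node (NTree.node (NTree.node dST24 dST25) (NTree.node dST26 dST27)) (NTree.node (NTree.node dST28 dST29) (NTree.node dST30 dST31)))))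

/-- the store. -/
noncomputable def dS : StoreD := { tree := dSTree, c := 43264, sh := 120 }

end Cfsg.Agent.Helper3.M24B

end
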