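import Mathlib
import Cfsg.Agent.Helper3.M24B.Data
import Cfsg.Agent.Helper3.M24B.Store

set_option autoImplicit false

/-! Kernel checks of the certificates, a part of the store. -/

noncomputable section

namespace Cfsg.Agent.Helper3.M24B

open Cfsg.Agent.Helper9.OutG Cfsg.Agent.Helper9.J3 Cfsg.Agent.Helper3.BlkInv Cfsg.Agent.Helper3.BlkRoots Cfsg.Agent.Helper3.BlkStore

set_option maxRecDepth 1000000 in
set_option maxHeartbeats 0 in
theorem ent_10 : allC (entChk dD dS) 10 1352 = true := by decide +kernel

set_option maxRecDepth 1000000 in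
set_option maxHeartbeats 0 in
theorem rootS_10 : rootChkG dD (tget dS.tree) dS.c dC.bs (tget dD.tree 25) (rangeL (10 * 1352) 1352) 1706497948194048 1982492832896777 = true := by decide +kernel

set_option maxRecDepth 1000000 in
set_option maxHeartbeats 0 in
theorem parS3_10 : Nat.beq (parG dD (tget dS.tree) dCodes dDs 20 (tget dD.tree 957) (rangeL (10 * 1352) 1352)) 1740450 = true := by decide +kernel

set_option maxRecDepth 1000000 in
set_option maxHeartbeats 0 in
theorem parS4_10 : Nat.beq (parG dD (tget dS.tree) dCodes dDs 20 (tget dD.tree 959) (rangeL (10 * 1352) 1352)) 356048 = true := by decide +kernel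

set_option maxRecDepth 1000000 in
set_option maxHeartbeats 0 in
theorem parS8_10 : Nat.beq (parG dD (tget dS.tree) dCodes dDs 20 (tget dD.tree 972) (rangeL (10 * 1352) 1352)) 2022488 = true := by decide +kernel

set_option maxRecDepth 1000000 in
set_option maxHeartbeats 0 in
theorem parS11_10 : Nat.beq (parG dD (tget dS.tree) dCodes dDs 20 (tget dD.tree 990) (rangeL (10 * 1352) 1352)) 961440 = true := by decide +kernel

set_option maxRecDepth 1000000 in
set_option maxHeartbeats 0 in
theorem parS14_10 : Nat.beq (parG dD (tget dS.tree) dCodes dDs 20 (tget dD.tree 1021) (rangeL (10 * 1352) 1352)) 1671808 = true := by decide +kernel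

set_option maxRecDepth 1000000 in
set_option maxHeartbeats 0 in
theorem parS18_10 : Nat.beq (parG dD (tget dS.tree) dCodes dDs 20 (tget dD.tree 1074) (rangeL (10 * 1352) 1352)) 599384 = true := by decide +kernel

set_option maxRecDepth 1000000 in
set_option maxHeartbeats 0 in
theorem parS19_10 : Nat.beq (parG dD (tget dS.tree) dCodes dDs 20 (tget dD.tree 1096) (rangeL (10 * 1352) 1352)) 1645832 = true := by decide +kernel

set_option maxRecDepth 1000000 in
set_option maxHeartbeats 0 in
theorem parS20_10 : Nat.beq (parG dD (tget dS.tree) dCodes dDs 20 (tget dD.tree 1120) (rangeL (10 * 1352) 1352)) 120504 = true := by decide +kernel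

end Cfsg.Agent.Helper3.M24B

end
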