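import Mathlib
import Cfsg.Agent.Helper3.M24B.Data
import Cfsg.Agent.Helper3.M24B.Store

set_option autoImplicit false

/-! Kernel checks of the certificates, a part of the store. -/

noncomputable section

namespace Cfsg.Agent.Helper3.M24B

open Cfsg.Agent.Helper9.OutG Cfsg.Agent.Helper9.J3 Cfsg.Agent.Helper3.BlkInv Cfsg.Agent.Helper3.BlkRoots Cfsg.Agent.Helper3.BlkStore

set_option maxRecDepth 1000000 in
set_option maxHeartbeats 0 in
theorem ent_12 : allC (entChk dD dS) 12 1352 = true := by decide +kernel

set_option maxRecDepth 1000000 in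
set_option maxHeartbeats 0 in
theorem rootS_12 : rootChkG dD (tget dS.tree) dS.c dC.bs (tget dD.tree 25) (rangeL (12 * 1352) 1352) 2257392080453903 2534400122425602 = true := by decide +kernel

set_option maxRecDepth 1000000 in
set_option maxHeartbeats 0 in
theorem parS3_12 : Nat.beq (parG dD (tget dS.tree) dCodes dDs 20 (tget dD.tree 957) (rangeL (12 * 1352) 1352)) 1478026 = true := by decide +kernel

set_option maxRecDepth 1000000 in
set_option maxHeartbeats 0 in
theorem parS4_12 : Nat.beq (parG dD (tget dS.tree) dCodes dDs 20 (tget dD.tree 959) (rangeL (12 * 1352) 1352)) 18422 = true := by decide +kernel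

set_option maxRecDepth 1000000 in
set_option maxHeartbeats 0 in
theorem parS8_12 : Nat.beq (parG dD (tget dS.tree) dCodes dDs 20 (tget dD.tree 972) (rangeL (12 * 1352) 1352)) 932290 = true := by decide +kernel

set_option maxRecDepth 1000000 in
set_option maxHeartbeats 0 in
theorem parS11_12 : Nat.beq (parG dD (tget dS.tree) dCodes dDs 20 (tget dD.tree 990) (rangeL (12 * 1352) 1352)) 1601888 = true := by decide +kernel

set_option maxRecDepth 1000000 in
set_option maxHeartbeats 0 in
theorem parS14_12 : Nat.beq (parG dD (tget dS.tree) dCodes dDs 20 (tget dD.tree 1021) (rangeL (12 * 1352) 1352)) 1864544 = true := by decide +kernel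

set_option maxRecDepth 1000000 in
set_option maxHeartbeats 0 in
theorem parS18_12 : Nat.beq (parG dD (tget dS.tree) dCodes dDs 20 (tget dD.tree 1074) (rangeL (12 * 1352) 1352)) 974968 = true := by decide +kernel

set_option maxRecDepth 1000000 in
set_option maxHeartbeats 0 in
theorem parS19_12 : Nat.beq (parG dD (tget dS.tree) dCodes dDs 20 (tget dD.tree 1096) (rangeL (12 * 1352) 1352)) 1207760 = true := by decide +kernel

set_option maxRecDepth 1000000 in
set_option maxHeartbeats 0 in
theorem parS20_12 : Nat.beq (parG dD (tget dS.tree) dCodes dDs 20 (tget dD.tree 1120) (rangeL (12 * 1352) 1352)) 1527536 = true := by decide +kernel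

end Cfsg.Agent.Helper3.M24B

end
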