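import Mathlib
import Cfsg.Agent.Helper3.M24B.Data
import Cfsg.Agent.Helper3.BlkCnt
import Cfsg.Agent.Helper3.M24B.ChkT1B0
import Cfsg.Agent.Helper3.M24B.ChkT1B1
import Cfsg.Agent.Helper3.M24B.ChkT1B2
import Cfsg.Agent.Helper3.M24B.ChkT1B3

set_option autoImplicit false

/-! Kernel checks of the certificates, a part. -/

noncomputable section

namespace Cfsg.Agent.Helper3.M24B

open Cfsg.Agent.Helper9.OutG Cfsg.Agent.Helper9.J3 Cfsg.Agent.Helper3.BlkCnt

set_option maxRecDepth 1000000 in
set_option maxHeartbeats 0 in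
theorem t1_hpw : allB (fun j => allB (fun x => Nat.beq (T dD (nthN dT1.ks j) x) (powF (T dD dT1.ky) j x)) dD.n) dT1.o = true := by decide +kernel

set_option maxRecDepth 1000000 in
set_option maxHeartbeats 0 in
theorem t1_hone : allB (fun x => Nat.beq (powF (T dD dT1.ky) dT1.o x) x) dD.n = true := by decide +kernel

set_option maxRecDepth 1000000 in
set_option maxHeartbeats 0 in
theorem t1_hne : allB (fun m => orB (Nat.beq m 0) (notB (allB (fun x => Nat.beq (powF (T dD dT1.ky) m x) x) dD.n))) dT1.o = true := by decide +kernel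

set_option maxRecDepth 1000000 in
set_option maxHeartbeats 0 in
theorem t1_hrel : relChk (T dD dT1.ky) dC.bs dT1.rel = true := by decide +kernel

set_option maxRecDepth 1000000 in
set_option maxHeartbeats 0 in
theorem t1_cnt : cntF dD (T dD dT1.ky) (T dD (nthN dT1.ks 1)) dC.bs dT1.rel dC.bs dC.wss (fun x => x) 0 [] = 7680 := by
  have hw : dC.wss = (dC.wss.headD []) :: dC.wss.tail := by decide +kernel
  have hlen : (dC.wss.headD []).length = 24 := by decide +kernel
  have h := cntF_of_branches dD (T dD dT1.ky) (T dD (nthN dT1.ks 1)) dC.bs dT1.rel dC.bs dC.wss 0 [1, 2, 3, 4, 5, 6]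
    (dC.wss.headD []) dC.wss.tail rfl hw [320, 320, 320, 320, 320, 320, 320, 320, 320, 320, 320, 320, 320, 320, 320, 320, 320, 320, 320, 320, 320, 320, 320, 320] (by rw [hlen]; rfl) ?_
  · rw [h]
    decide +kernel
  · intro b hb
    rw [hlen] at hb
    interval_cases b
    · exact t1_br0
    · exact t1_br1
    · exact t1_br2
    · exact t1_br3
    · exact t1_br4
    · exact t1_br5
    · exact t1_br6
    · exact t1_br7
    · exact t1_br8
    · exact t1_br9
    · exact t1_br10
    · exact t1_br11
    · exact t1_br12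
    · exact t1_br13
    · exact t1_br14
    · exact t1_br15
    · exact t1_br16
    · exact t1_br17
    · exact t1_br18
    · exact t1_br19
    · exact t1_br20
    · exact t1_br21
    · exact t1_br22
    · exact t1_br23

theorem t1_hcnt : Nat.ble (sumF (fun j => ifz (Nat.sub (Nat.gcd j dT1.o) 1) (cntF dD (T dD dT1.ky) (T dD (nthN dT1.ks j)) dC.bs dT1.rel dC.bs dC.wss (fun x => x) 0 []) 0) dT1.o) dT1.nu = true :=
  hcnt_two dD dC dT1 rfl 7680 t1_cnt (by decide)

set_option maxRecDepth 1000000 in
set_option maxHeartbeats 0 in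
theorem t1_hsup : Nat.beq (supCnt dD dT1.ky) dT1.sup = true := by decide +kernel

theorem typeOK1 : TypeOK dD dC dT1 :=
  { hpos := by decide, hpw := t1_hpw, hone := t1_hone, hne := t1_hne, hrel := t1_hrel, hcnt := t1_hcnt, hsup := t1_hsup }

end Cfsg.Agent.Helper3.M24B

end
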