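import Mathlib
import Cfsg.Agent.Helper3.M24B.Data
import Cfsg.Agent.Helper3.BlkCnt

set_option autoImplicit false

/-! Kernel checks of the certificates, a part of the count of a centralizer. -/

noncomputable section

namespace Cfsg.Agent.Helper3.M24B

open Cfsg.Agent.Helper9.OutG Cfsg.Agent.Helper9.J3 Cfsg.Agent.Helper3.BlkCnt

set_option maxRecDepth 1000000 in
set_option maxHeartbeats 0 in
theorem t2_br0 : brF dD (T dD dT2.ky) (T dD (nthN dT2.ks 1)) dC.bs dT2.rel 0 [1, 2, 3, 4, 5, 6] dC.wss.tail ((dC.wss.headD []).getD 0 []) = 1344 := by decide +kernel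

set_option maxRecDepth 1000000 in
set_option maxHeartbeats 0 in
theorem t2_br1 : brF dD (T dD dT2.ky) (T dD (nthN dT2.ks 1)) dC.bs dT2.rel 0 [1, 2, 3, 4, 5, 6] dC.wss.tail ((dC.wss.headD []).getD 1 []) = 1344 := by decide +kernel

set_option maxRecDepth 1000000 in
set_option maxHeartbeats 0 in
theorem t2_br2 : brF dD (T dD dT2.ky) (T dD (nthN dT2.ks 1)) dC.bs dT2.rel 0 [1, 2, 3, 4, 5, 6] dC.wss.tail ((dC.wss.headD []).getD 2 []) = 0 := by decide +kernel

end Cfsg.Agent.Helper3.M24B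

end
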