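import Mathlib
import Cfsg.Agent.Helper3.M24B.Data
import Cfsg.Agent.Helper3.BlkCnt
import Cfsg.Agent.Helper3.M24B.ChkT2B0
import Cfsg.Agent.Helper3.M24B.ChkT2B1
import Cfsg.Agent.Helper3.M24B.ChkT2B2
import Cfsg.Agent.Helper3.M24B.ChkT2B3
import Cfsg.Agent.Helper3.M24B.ChkT2B4
import Cfsg.Agent.Helper3.M24B.ChkT2B5
import Cfsg.Agent.Helper3.M24B.ChkT2B6
import Cfsg.Agent.Helper3.M24B.ChkT2B7

set_option autoImplicit false

/-! Kernel checks of the certificates, a part. -/

noncomputable section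

namespace Cfsg.Agent.Helper3.M24B

open Cfsg.Agent.Helper9.OutG Cfsg.Agent.Helper9.J3 Cfsg.Agent.Helper3.BlkCnt

set_option maxRecDepth 1000000 in
set_option maxHeartbeats 0 in
theorem t2_hpw : allB (fun j => allB (fun x => Nat.beq (T dD (nthN dT2.ks j) x) (powF (T dD dT2.ky) j x)) dD.n) dT2.o = true := by decide +kernel

set_option maxRecDepth 1000000 in
set_option maxHeartbeats 0 in
theorem t2_hone : allB (fun x => Nat.beq (powF (T dD dT2.ky) dT2.o x) x) dD.n = true := by decide +kernel

set_option maxRecDepth 1000000 in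
set_option maxHeartbeats 0 in
theorem t2_hne : allB (fun m => orB (Nat.beq m 0) (notB (allB (fun x => Nat.beq (powF (T dD dT2.ky) m x) x) dD.n))) dT2.o = true := by decide +kernel

set_option maxRecDepth 1000000 in
set_option maxHeartbeats 0 in
theorem t2_hrel : relChk (T dD dT2.ky) dC.bs dT2.rel = true := by decide +kernel

set_option maxRecDepth 1000000 in
set_option maxHeartbeats 0 in
theorem t2_cnt : cntF dD (T dD dT2.ky) (T dD (nthN dT2.ks 1)) dC.bs dT2.rel dC.bs dC.wss (fun x => x) 0 [] = 21504 := by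
  have hw : dC.wss = (dC.wss.headD []) :: dC.wss.tail := by decide +kernel
  have hlen : (dC.wss.headD []).length = 24 := by decide +kernel
  have h := cntF_of_branches dD (T dD dT2.ky) (T dD (nthN dT2.ks 1)) dC.bs dT2.rel dC.bs dC.wss 0 [1, 2, 3, 4, 5, 6]
    (dC.wss.headD []) dC.wss.tail rfl hw [1344, 1344, 0, 1344, 1344, 1344, 1344, 0, 1344, 0, 0, 1344, 0, 0, 0, 0, 1344, 1344, 1344, 1344, 1344, 1344, 1344, 1344] (by rw [hlen]; rfl) ?_
  · rw [h]
    decide +kernel
  · intro b hb
    rw [hlen] at hb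
    interval_cases b
    · exact t2_br0
    · exact t2_br1
    · exact t2_br2
    · exact t2_br3
    · exact t2_br4
    · exact t2_br5
    · exact t2_br6
    · exact t2_br7
    · exact t2_br8
    · exact t2_br9
    · exact t2_br10
    · exact t2_br11
    · exact t2_br12
    · exact t2_br13
    · exact t2_br14
    · exact t2_br15
    · exact t2_br16
    · exact t2_br17
    · exact t2_br18
    · exact t2_br19
    · exact t2_br20
    · exact t2_br21
    · exact t2_br22
    · exact t2_br23

theorem t2_hcnt : Nat.ble (sumF (fun j => ifz (Nat.sub (Nat.gcd j dT2.o) 1) (cntF dD (T dD dT2.ky) (T dD (nthN dT2.ks j)) dC.bs dT2.rel dC.bs dC.wss (fun x => x) 0 []) 0) dT2.o) dT2.nu = true :=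
  hcnt_two dD dC dT2 rfl 21504 t2_cnt (by decide)

set_option maxRecDepth 1000000 in
set_option maxHeartbeats 0 in
theorem t2_hsup : Nat.beq (supCnt dD dT2.ky) dT2.sup = true := by decide +kernel

theorem typeOK2 : TypeOK dD dC dT2 :=
  { hpos := by decide, hpw := t2_hpw, hone := t2_hone, hne := t2_hne, hrel := t2_hrel, hcnt := t2_hcnt, hsup := t2_hsup }

end Cfsg.Agent.Helper3.M24B

end
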