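import Mathlib
import Cfsg.Agent.Helper3.M24B.Data

set_option autoImplicit false

/-! Kernel checks of the certificates, a part. -/

noncomputable section

namespace Cfsg.Agent.Helper3.M24B

open Cfsg.Agent.Helper9.OutG Cfsg.Agent.Helper9.J3

set_option maxRecDepth 1000000 in
set_option maxHeartbeats 0 in
theorem t4_hpw : allB (fun j => allB (fun x => Nat.beq (T dD (nthN dT4.ks j) x) (powF (T dD dT4.ky) j x)) dD.n) dT4.o = true := by decide +kernel

set_option maxRecDepth 1000000 in
set_option maxHeartbeats 0 in
theorem t4_hone : allB (fun x => Nat.beq (powF (T dD dT4.ky) dT4.o x) x) dD.n = true := by decide +kernel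

set_option maxRecDepth 1000000 in
set_option maxHeartbeats 0 in
theorem t4_hne : allB (fun m => orB (Nat.beq m 0) (notB (allB (fun x => Nat.beq (powF (T dD dT4.ky) m x) x) dD.n))) dT4.o = true := by decide +kernel

set_option maxRecDepth 1000000 in
set_option maxHeartbeats 0 in
theorem t4_hrel : relChk (T dD dT4.ky) dC.bs dT4.rel = true := by decide +kernel

set_option maxRecDepth 1000000 in
set_option maxHeartbeats 0 in
theorem t4_hcnt : Nat.ble (sumF (fun j => ifz (Nat.sub (Nat.gcd j dT4.o) 1) (cntF dD (T dD dT4.ky) (T dD (nthN dT4.ks j)) dC.bs dT4.rel dC.bs dC.wss (fun x => x) 0 []) 0) dT4.o) dT4.nu = true := by decide +kernel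

set_option maxRecDepth 1000000 in
set_option maxHeartbeats 0 in
theorem t4_hsup : Nat.beq (supCnt dD dT4.ky) dT4.sup = true := by decide +kernel

theorem typeOK4 : TypeOK dD dC dT4 :=
  { hpos := by decide, hpw := t4_hpw, hone := t4_hone, hne := t4_hne, hrel := t4_hrel, hcnt := t4_hcnt, hsup := t4_hsup }

end Cfsg.Agent.Helper3.M24B

end
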