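import Mathlib
import Cfsg.Agent.Helper3.M24B.Data

set_option autoImplicit false

/-! Kernel checks of the certificates, a part. -/

noncomputable section

namespace Cfsg.Agent.Helper3.M24B

open Cfsg.Agent.Helper9.OutG Cfsg.Agent.Helper9.J3

set_option maxRecDepth 1000000 in
set_option maxHeartbeats 0 in
theorem t7_hpw : allB (fun j => allB (fun x => Nat.beq (T dD (nthN dT7.ks j) x) (powF (T dD dT7.ky) j x)) dD.n) dT7.o = true := by decide +kernel

set_option maxRecDepth 1000000 in
set_option maxHeartbeats 0 in
theorem t7_hone : allB (fun x => Nat.beq (powF (T dD dT7.ky) dT7.o x) x) dD.n = true := by decide +kernel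

set_option maxRecDepth 1000000 in
set_option maxHeartbeats 0 in
theorem t7_hne : allB (fun m => orB (Nat.beq m 0) (notB (allB (fun x => Nat.beq (powF (T dD dT7.ky) m x) x) dD.n))) dT7.o = true := by decide +kernel

set_option maxRecDepth 1000000 in
set_option maxHeartbeats 0 in
theorem t7_hrel : relChk (T dD dT7.ky) dC.bs dT7.rel = true := by decide +kernel

set_option maxRecDepth 1000000 in
set_option maxHeartbeats 0 in
theorem t7_hcnt : Nat.ble (sumF (fun j => ifz (Nat.sub (Nat.gcd j dT7.o) 1) (cntF dD (T dD dT7.ky) (T dD (nthN dT7.ks j)) dC.bs dT7.rel dC.bs dC.wss (fun x => x) 0 []) 0) dT7.o) dT7.nu = true := by decide +kernel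

set_option maxRecDepth 1000000 in
set_option maxHeartbeats 0 in
theorem t7_hsup : Nat.beq (supCnt dD dT7.ky) dT7.sup = true := by decide +kernel

theorem typeOK7 : TypeOK dD dC dT7 :=
  { hpos := by decide, hpw := t7_hpw, hone := t7_hone, hne := t7_hne, hrel := t7_hrel, hcnt := t7_hcnt, hsup := t7_hsup }

end Cfsg.Agent.Helper3.M24B

end
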