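import Mathlib
import Cfsg.Agent.Helper3.M24B.Chk
import Cfsg.Agent.Helper3.M24B.ChkT1
import Cfsg.Agent.Helper3.M24B.ChkT2
import Cfsg.Agent.Helper3.M24B.ChkT3
import Cfsg.Agent.Helper3.M24B.ChkT4
import Cfsg.Agent.Helper3.M24B.ChkT5
import Cfsg.Agent.Helper3.M24B.ChkT6
import Cfsg.Agent.Helper3.M24B.ChkT7
import Cfsg.Agent.Helper3.M24B.ChkT8
import Cfsg.Agent.Helper3.M24B.ChkT9
import Cfsg.Agent.Helper3.M24B.ChkT10
import Cfsg.Agent.Helper3.M24B.ChkT11
import Cfsg.Agent.Helper3.M24B.ChkT12
import Cfsg.Agent.Helper3.M24B.ChkT13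
import Cfsg.Agent.Helper3.M24B.ChkT14
import Cfsg.Agent.Helper3.M24B.ChkT15
import Cfsg.Agent.Helper3.M24B.ChkT16
import Cfsg.Agent.Helper3.M24B.ChkT17
import Cfsg.Agent.Helper3.M24B.ChkT18
import Cfsg.Agent.Helper3.M24B.ChkT19
import Cfsg.Agent.Helper3.M24B.ChkT20
import Cfsg.Agent.Helper3.M24B.ChkR
import Cfsg.Agent.Helper3.M24B.ChkC1
import Cfsg.Agent.Helper3.M24B.ChkC2
import Cfsg.Agent.Helper3.M24B.ChkC5
import Cfsg.Agent.Helper3.M24B.ChkC6
import Cfsg.Agent.Helper3.M24B.ChkC7
import Cfsg.Agent.Helper3.M24B.ChkC9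
import Cfsg.Agent.Helper3.M24B.ChkC10
import Cfsg.Agent.Helper3.M24B.ChkC12
import Cfsg.Agent.Helper3.M24B.ChkC13
import Cfsg.Agent.Helper3.M24B.ChkC15
import Cfsg.Agent.Helper3.M24B.ChkC16
import Cfsg.Agent.Helper3.M24B.ChkC17
import Cfsg.Agent.Helper3.M24B.ChkS0
import Cfsg.Agent.Helper3.M24B.ChkS1
import Cfsg.Agent.Helper3.M24B.ChkS2
import Cfsg.Agent.Helper3.M24B.ChkS3
import Cfsg.Agent.Helper3.M24B.ChkS4
import Cfsg.Agent.Helper3.M24B.ChkS5
import Cfsg.Agent.Helper3.M24B.ChkS6
import Cfsg.Agent.Helper3.M24B.ChkS7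
import Cfsg.Agent.Helper3.M24B.ChkS8
import Cfsg.Agent.Helper3.M24B.ChkS9
import Cfsg.Agent.Helper3.M24B.ChkS10
import Cfsg.Agent.Helper3.M24B.ChkS11
import Cfsg.Agent.Helper3.M24B.ChkS12
import Cfsg.Agent.Helper3.M24B.ChkS13
import Cfsg.Agent.Helper3.M24B.ChkS14
import Cfsg.Agent.Helper3.M24B.ChkS15
import Cfsg.Agent.Helper3.M24B.ChkS16
import Cfsg.Agent.Helper3.M24B.ChkS17
import Cfsg.Agent.Helper3.M24B.ChkS18
import Cfsg.Agent.Helper3.M24B.ChkS19
import Cfsg.Agent.Helper3.M24B.ChkS20
import Cfsg.Agent.Helper3.M24B.ChkS21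
import Cfsg.Agent.Helper3.M24B.ChkS22
import Cfsg.Agent.Helper3.M24B.ChkS23
import Cfsg.Agent.Helper3.M24B.ChkS24
import Cfsg.Agent.Helper3.M24B.ChkS25
import Cfsg.Agent.Helper3.M24B.ChkS26
import Cfsg.Agent.Helper3.M24B.ChkS27
import Cfsg.Agent.Helper3.M24B.ChkS28
import Cfsg.Agent.Helper3.M24B.ChkS29
import Cfsg.Agent.Helper3.M24B.ChkS30
import Cfsg.Agent.Helper3.M24B.ChkS31
import Cfsg.Agent.Helper3.M24B.Bridge
import Cfsg.Agent.Helper3.BlkAsm
import Cfsg.Agent.Helper3.BlkStore
import Cfsg.Agent.Helper6.PrincipalPairs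
import Cfsg.Agent.Helper6.BrauerPerm2


set_option autoImplicit false

/-! All irreducible characters of the group of the tables lie in one 2-block. -/

noncomputable section

namespace Cfsg.Agent.Helper3.M24B

open Cfsg Cfsg.Agent.Helper9.OutG Cfsg.Agent.Helper9.J3 Cfsg.Agent.Helper3.BlkInv
  Cfsg.Agent.Helper3.BlkCover Cfsg.Agent.Helper3.BlkRoots Cfsg.Agent.Helper3.BlkAsm
  Cfsg.Agent.Helper3.BlkParity Cfsg.Agent.Helper3.BlkStore

theorem hbs : ∀ b ∈ dC.bs, b < dD.n := by decide

/-- the type of an element. -/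
def tyG : ↥(GS core) → Fin 21 := ty core dCodes dDs 20

/-- the tables of the representatives. -/
def kyL : List ℕ := [25, 26, 27, 956, 958, 960, 963, 966, 969, 975, 980, 985, 993, 1001, 1012, 1024, 1036, 1048, 1063, 1077, 1099]

/-- the representatives. -/
def tG (i : Fin 21) : ↥(GS core) := gE core (nthN kyL i.val)

/-- the bounds for the normalizing elements. -/
def nuF (i : Fin 21) : ℕ := nthN [244823040, 7680, 21504, 1008, 2160, 192, 768, 256, 240, 48, 48, 126, 64, 80, 110, 48, 48, 42, 60, 126, 253] i.val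

/-- the sizes of the types. -/
def mF (i : Fin 21) : ℕ := nthN [1, 31878, 11385, 485760, 226688, 2550240, 637560, 1912680, 4080384, 10200960, 10200960, 11658240, 15301440, 12241152, 22256640, 20401920, 20401920, 34974720, 32643072, 23316480, 21288960] i.val

/-- the types of the squares. -/
def sqF (i : Fin 21) : Fin 21 := ⟨Nat.min (nthN [0, 0, 0, 3, 4, 1, 2, 2, 8, 3, 4, 11, 7, 8, 14, 9, 10, 11, 18, 19, 20] i.val) 20, Nat.lt_succ_of_le (Nat.min_le_right _ _)⟩

/-- the ranks. -/
def rhoF (i : Fin 21) : ℕ := nthN [0, 2, 2, 0, 1, 0, 1, 1, 0, 0, 1, 0, 0, 0, 0, 0, 0, 0, 0, 0, 0] i.val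

/-- the exponents of 2 in the orders. -/
def aF (i : Fin 21) : ℕ := nthN [0, 1, 1, 0, 0, 2, 2, 2, 0, 1, 1, 0, 3, 1, 0, 2, 2, 1, 0, 0, 0] i.val

/-- the halves of the odd parts of the orders. -/
def eF (i : Fin 21) : ℕ := nthN [0, 0, 0, 1, 1, 0, 0, 0, 2, 1, 1, 3, 0, 2, 5, 1, 1, 3, 7, 10, 11] i.val

theorem tyG_conj (x g : ↥(GS core)) : tyG (x * g * x⁻¹) = tyG g := ty_conj core _ _ _ x g

theorem tyG_inv (g : ↥(GS core)) : tyG g⁻¹ = tyG g := ty_inv core _ _ _ g

theorem tG0 : tG 0 = 1 := one_of_type core typeOK1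

theorem rep0 : tyG (tG 0) = 0 := ty_of_chk core dCodes dDs 20 25 0 (by decide) tyrep0

theorem rep1 : tyG (tG ⟨1, by decide⟩) = ⟨1, by decide⟩ :=
  ty_of_chk core dCodes dDs 20 dT1.ky 1 (by decide) tyrep1

theorem rep2 : tyG (tG ⟨2, by decide⟩) = ⟨2, by decide⟩ :=
  ty_of_chk core dCodes dDs 20 dT2.ky 2 (by decide) tyrep2

theorem rep3 : tyG (tG ⟨3, by decide⟩) = ⟨3, by decide⟩ :=
  ty_of_chk core dCodes dDs 20 dT3.ky 3 (by decide) tyrep3

theorem rep4 : tyG (tG ⟨4, by decide⟩) = ⟨4, by decide⟩ :=
  ty_of_chk core dCodes dDs 20 dT4.ky 4 (by decide) tyrep4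

theorem rep5 : tyG (tG ⟨5, by decide⟩) = ⟨5, by decide⟩ :=
  ty_of_chk core dCodes dDs 20 dT5.ky 5 (by decide) tyrep5

theorem rep6 : tyG (tG ⟨6, by decide⟩) = ⟨6, by decide⟩ :=
  ty_of_chk core dCodes dDs 20 dT6.ky 6 (by decide) tyrep6

theorem rep7 : tyG (tG ⟨7, by decide⟩) = ⟨7, by decide⟩ :=
  ty_of_chk core dCodes dDs 20 dT7.ky 7 (by decide) tyrep7

theorem rep8 : tyG (tG ⟨8, by decide⟩) = ⟨8, by decide⟩ :=
  ty_of_chk core dCodes dDs 20 dT8.ky 8 (by decide) tyrep8

theorem rep9 : tyG (tG ⟨9, by decide⟩) = ⟨9, by decide⟩ :=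
  ty_of_chk core dCodes dDs 20 dT9.ky 9 (by decide) tyrep9

theorem rep10 : tyG (tG ⟨10, by decide⟩) = ⟨10, by decide⟩ :=
  ty_of_chk core dCodes dDs 20 dT10.ky 10 (by decide) tyrep10

theorem rep11 : tyG (tG ⟨11, by decide⟩) = ⟨11, by decide⟩ :=
  ty_of_chk core dCodes dDs 20 dT11.ky 11 (by decide) tyrep11

theorem rep12 : tyG (tG ⟨12, by decide⟩) = ⟨12, by decide⟩ :=
  ty_of_chk core dCodes dDs 20 dT12.ky 12 (by decide) tyrep12

theorem rep13 : tyG (tG ⟨13, by decide⟩) = ⟨13, by decide⟩ :=
  ty_of_chk core dCodes dDs 20 dT13.ky 13 (by decide) tyrep13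

theorem rep14 : tyG (tG ⟨14, by decide⟩) = ⟨14, by decide⟩ :=
  ty_of_chk core dCodes dDs 20 dT14.ky 14 (by decide) tyrep14

theorem rep15 : tyG (tG ⟨15, by decide⟩) = ⟨15, by decide⟩ :=
  ty_of_chk core dCodes dDs 20 dT15.ky 15 (by decide) tyrep15

theorem rep16 : tyG (tG ⟨16, by decide⟩) = ⟨16, by decide⟩ :=
  ty_of_chk core dCodes dDs 20 dT16.ky 16 (by decide) tyrep16

theorem rep17 : tyG (tG ⟨17, by decide⟩) = ⟨17, by decide⟩ :=
  ty_of_chk core dCodes dDs 20 dT17.ky 17 (by decide) tyrep17

theorem rep18 : tyG (tG ⟨18, by decide⟩) = ⟨18, by decide⟩ :=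
  ty_of_chk core dCodes dDs 20 dT18.ky 18 (by decide) tyrep18

theorem rep19 : tyG (tG ⟨19, by decide⟩) = ⟨19, by decide⟩ :=
  ty_of_chk core dCodes dDs 20 dT19.ky 19 (by decide) tyrep19

theorem rep20 : tyG (tG ⟨20, by decide⟩) = ⟨20, by decide⟩ :=
  ty_of_chk core dCodes dDs 20 dT20.ky 20 (by decide) tyrep20

theorem rep : ∀ i : Fin 21, tyG (tG i) = i := by
  intro i
  fin_cases i
  · exact rep0
  · exact rep1
  · exact rep2
  · exact rep3
  · exact rep4
  · exact rep5
  · exact rep6
  · exact rep7
  · exact rep8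
  · exact rep9
  · exact rep10
  · exact rep11
  · exact rep12
  · exact rep13
  · exact rep14
  · exact rep15
  · exact rep16
  · exact rep17
  · exact rep18
  · exact rep19
  · exact rep20


theorem hpow (i : Fin 21) (k : ℕ) (hk : Nat.Coprime k (orderOf (tG i))) : tyG (tG i ^ k) = i := by
  unfold tyG
  rw [ty_pow_coprime core _ _ _ _ k hk]
  exact rep i

theorem nu1 : 1 < orderOf (gE core dT1.ky) ∧
    {g : ↥(GS core) | ∃ j : ℕ, j < orderOf (gE core dT1.ky) ∧ g * gE core dT1.ky = gE core dT1.ky ^ j * g}.ncard ≤ dT1.nu ∧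
    dT1.nu * 31878 = Nat.card ↥(GS core) * Nat.totient (orderOf (gE core dT1.ky)) :=
  nu_of_type core card_GS hbs typeOK1 (by decide) 31878 (by decide)

theorem nu2 : 1 < orderOf (gE core dT2.ky) ∧
    {g : ↥(GS core) | ∃ j : ℕ, j < orderOf (gE core dT2.ky) ∧ g * gE core dT2.ky = gE core dT2.ky ^ j * g}.ncard ≤ dT2.nu ∧
    dT2.nu * 11385 = Nat.card ↥(GS core) * Nat.totient (orderOf (gE core dT2.ky)) :=
  nu_of_type core card_GS hbs typeOK2 (by decide) 11385 (by decide)

theorem nu3 : 1 < orderOf (gE core dT3.ky) ∧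
    {g : ↥(GS core) | ∃ j : ℕ, j < orderOf (gE core dT3.ky) ∧ g * gE core dT3.ky = gE core dT3.ky ^ j * g}.ncard ≤ dT3.nu ∧
    dT3.nu * 485760 = Nat.card ↥(GS core) * Nat.totient (orderOf (gE core dT3.ky)) :=
  nu_of_type core card_GS hbs typeOK3 (by decide) 485760 (by decide)

theorem nu4 : 1 < orderOf (gE core dT4.ky) ∧
    {g : ↥(GS core) | ∃ j : ℕ, j < orderOf (gE core dT4.ky) ∧ g * gE core dT4.ky = gE core dT4.ky ^ j * g}.ncard ≤ dT4.nu ∧
    dT4.nu * 226688 = Nat.card ↥(GS core) * Nat.totient (orderOf (gE core dT4.ky)) :=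
  nu_of_type core card_GS hbs typeOK4 (by decide) 226688 (by decide)

theorem nu5 : 1 < orderOf (gE core dT5.ky) ∧
    {g : ↥(GS core) | ∃ j : ℕ, j < orderOf (gE core dT5.ky) ∧ g * gE core dT5.ky = gE core dT5.ky ^ j * g}.ncard ≤ dT5.nu ∧
    dT5.nu * 2550240 = Nat.card ↥(GS core) * Nat.totient (orderOf (gE core dT5.ky)) :=
  nu_of_type core card_GS hbs typeOK5 (by decide) 2550240 (by decide)

theorem nu6 : 1 < orderOf (gE core dT6.ky) ∧
    {g : ↥(GS core) | ∃ j : ℕ, j < orderOf (gE core dT6.ky) ∧ g * gE core dT6.ky = gE core dT6.ky ^ j * g}.ncard ≤ dT6.nu ∧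
    dT6.nu * 637560 = Nat.card ↥(GS core) * Nat.totient (orderOf (gE core dT6.ky)) :=
  nu_of_type core card_GS hbs typeOK6 (by decide) 637560 (by decide)

theorem nu7 : 1 < orderOf (gE core dT7.ky) ∧
    {g : ↥(GS core) | ∃ j : ℕ, j < orderOf (gE core dT7.ky) ∧ g * gE core dT7.ky = gE core dT7.ky ^ j * g}.ncard ≤ dT7.nu ∧
    dT7.nu * 1912680 = Nat.card ↥(GS core) * Nat.totient (orderOf (gE core dT7.ky)) :=
  nu_of_type core card_GS hbs typeOK7 (by decide) 1912680 (by decide)

theorem nu8 : 1 < orderOf (gE core dT8.ky) ∧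
    {g : ↥(GS core) | ∃ j : ℕ, j < orderOf (gE core dT8.ky) ∧ g * gE core dT8.ky = gE core dT8.ky ^ j * g}.ncard ≤ dT8.nu ∧
    dT8.nu * 4080384 = Nat.card ↥(GS core) * Nat.totient (orderOf (gE core dT8.ky)) :=
  nu_of_type core card_GS hbs typeOK8 (by decide) 4080384 (by decide)

theorem nu9 : 1 < orderOf (gE core dT9.ky) ∧
    {g : ↥(GS core) | ∃ j : ℕ, j < orderOf (gE core dT9.ky) ∧ g * gE core dT9.ky = gE core dT9.ky ^ j * g}.ncard ≤ dT9.nu ∧
    dT9.nu * 10200960 = Nat.card ↥(GS core) * Nat.totient (orderOf (gE core dT9.ky)) :=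
  nu_of_type core card_GS hbs typeOK9 (by decide) 10200960 (by decide)

theorem nu10 : 1 < orderOf (gE core dT10.ky) ∧
    {g : ↥(GS core) | ∃ j : ℕ, j < orderOf (gE core dT10.ky) ∧ g * gE core dT10.ky = gE core dT10.ky ^ j * g}.ncard ≤ dT10.nu ∧
    dT10.nu * 10200960 = Nat.card ↥(GS core) * Nat.totient (orderOf (gE core dT10.ky)) :=
  nu_of_type core card_GS hbs typeOK10 (by decide) 10200960 (by decide)

theorem nu11 : 1 < orderOf (gE core dT11.ky) ∧
    {g : ↥(GS core) | ∃ j : ℕ, j < orderOf (gE core dT11.ky) ∧ g * gE core dT11.ky = gE core dT11.ky ^ j * g}.ncard ≤ dT11.nu ∧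
    dT11.nu * 11658240 = Nat.card ↥(GS core) * Nat.totient (orderOf (gE core dT11.ky)) :=
  nu_of_type core card_GS hbs typeOK11 (by decide) 11658240 (by decide)

theorem nu12 : 1 < orderOf (gE core dT12.ky) ∧
    {g : ↥(GS core) | ∃ j : ℕ, j < orderOf (gE core dT12.ky) ∧ g * gE core dT12.ky = gE core dT12.ky ^ j * g}.ncard ≤ dT12.nu ∧
    dT12.nu * 15301440 = Nat.card ↥(GS core) * Nat.totient (orderOf (gE core dT12.ky)) :=
  nu_of_type core card_GS hbs typeOK12 (by decide) 15301440 (by decide)

theorem nu13 : 1 < orderOf (gE core dT13.ky) ∧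
    {g : ↥(GS core) | ∃ j : ℕ, j < orderOf (gE core dT13.ky) ∧ g * gE core dT13.ky = gE core dT13.ky ^ j * g}.ncard ≤ dT13.nu ∧
    dT13.nu * 12241152 = Nat.card ↥(GS core) * Nat.totient (orderOf (gE core dT13.ky)) :=
  nu_of_type core card_GS hbs typeOK13 (by decide) 12241152 (by decide)

theorem nu14 : 1 < orderOf (gE core dT14.ky) ∧
    {g : ↥(GS core) | ∃ j : ℕ, j < orderOf (gE core dT14.ky) ∧ g * gE core dT14.ky = gE core dT14.ky ^ j * g}.ncard ≤ dT14.nu ∧
    dT14.nu * 22256640 = Nat.card ↥(GS core) * Nat.totient (orderOf (gE core dT14.ky)) :=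
  nu_of_type core card_GS hbs typeOK14 (by decide) 22256640 (by decide)

theorem nu15 : 1 < orderOf (gE core dT15.ky) ∧
    {g : ↥(GS core) | ∃ j : ℕ, j < orderOf (gE core dT15.ky) ∧ g * gE core dT15.ky = gE core dT15.ky ^ j * g}.ncard ≤ dT15.nu ∧
    dT15.nu * 20401920 = Nat.card ↥(GS core) * Nat.totient (orderOf (gE core dT15.ky)) :=
  nu_of_type core card_GS hbs typeOK15 (by decide) 20401920 (by decide)

theorem nu16 : 1 < orderOf (gE core dT16.ky) ∧
    {g : ↥(GS core) | ∃ j : ℕ, j < orderOf (gE core dT16.ky) ∧ g * gE core dT16.ky = gE core dT16.ky ^ j * g}.ncard ≤ dT16.nu ∧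
    dT16.nu * 20401920 = Nat.card ↥(GS core) * Nat.totient (orderOf (gE core dT16.ky)) :=
  nu_of_type core card_GS hbs typeOK16 (by decide) 20401920 (by decide)

theorem nu17 : 1 < orderOf (gE core dT17.ky) ∧
    {g : ↥(GS core) | ∃ j : ℕ, j < orderOf (gE core dT17.ky) ∧ g * gE core dT17.ky = gE core dT17.ky ^ j * g}.ncard ≤ dT17.nu ∧
    dT17.nu * 34974720 = Nat.card ↥(GS core) * Nat.totient (orderOf (gE core dT17.ky)) :=
  nu_of_type core card_GS hbs typeOK17 (by decide) 34974720 (by decide)

theorem nu18 : 1 < orderOf (gE core dT18.ky) ∧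
    {g : ↥(GS core) | ∃ j : ℕ, j < orderOf (gE core dT18.ky) ∧ g * gE core dT18.ky = gE core dT18.ky ^ j * g}.ncard ≤ dT18.nu ∧
    dT18.nu * 32643072 = Nat.card ↥(GS core) * Nat.totient (orderOf (gE core dT18.ky)) :=
  nu_of_type core card_GS hbs typeOK18 (by decide) 32643072 (by decide)

theorem nu19 : 1 < orderOf (gE core dT19.ky) ∧
    {g : ↥(GS core) | ∃ j : ℕ, j < orderOf (gE core dT19.ky) ∧ g * gE core dT19.ky = gE core dT19.ky ^ j * g}.ncard ≤ dT19.nu ∧
    dT19.nu * 23316480 = Nat.card ↥(GS core) * Nat.totient (orderOf (gE core dT19.ky)) :=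
  nu_of_type core card_GS hbs typeOK19 (by decide) 23316480 (by decide)

theorem nu20 : 1 < orderOf (gE core dT20.ky) ∧
    {g : ↥(GS core) | ∃ j : ℕ, j < orderOf (gE core dT20.ky) ∧ g * gE core dT20.ky = gE core dT20.ky ^ j * g}.ncard ≤ dT20.nu ∧
    dT20.nu * 21288960 = Nat.card ↥(GS core) * Nat.totient (orderOf (gE core dT20.ky)) :=
  nu_of_type core card_GS hbs typeOK20 (by decide) 21288960 (by decide)

theorem hnu : ∀ i : Fin 21, i ≠ 0 → 1 < orderOf (tG i) ∧
    {g : ↥(GS core) | ∃ j : ℕ, j < orderOf (tG i) ∧ g * tG i = tG i ^ j * g}.ncard ≤ nuF i ∧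
    nuF i * mF i = Nat.card ↥(GS core) * Nat.totient (orderOf (tG i)) := by
  intro i hi
  fin_cases i
  · exact absurd rfl hi
  · exact nu1
  · exact nu2
  · exact nu3
  · exact nu4
  · exact nu5
  · exact nu6
  · exact nu7
  · exact nu8
  · exact nu9
  · exact nu10
  · exact nu11
  · exact nu12
  · exact nu13
  · exact nu14
  · exact nu15
  · exact nu16
  · exact nu17
  · exact nu18
  · exact nu19
  · exact nu20


theorem hsum : ∑ i : Fin 21, mF i = Nat.card ↥(GS core) := by
  rw [card_GS]
  decide

theorem cov : (∀ i : Fin 21, (cl tyG i).card = mF i) ∧ ∀ g : ↥(GS core), g ∈ Cj (tG (tyG g)) :=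
  cover tyG tG nuF mF 0 rfl tyG_conj hpow hnu hsum

theorem rat1 : ∀ k : ℕ, Nat.Coprime k (orderOf (gE core dT1.ky)) →
    IsConj (gE core dT1.ky) (gE core dT1.ky ^ k) ∨ IsConj (gE core dT1.ky)⁻¹ (gE core dT1.ky ^ k) :=
  rat_of_type core typeOK1 25 1 (by decide) cj1 (by decide +kernel)

theorem rat2 : ∀ k : ℕ, Nat.Coprime k (orderOf (gE core dT2.ky)) →
    IsConj (gE core dT2.ky) (gE core dT2.ky ^ k) ∨ IsConj (gE core dT2.ky)⁻¹ (gE core dT2.ky ^ k) :=
  rat_of_type core typeOK2 25 1 (by decide) cj2 (by decide +kernel)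

theorem rat3 : ∀ k : ℕ, Nat.Coprime k (orderOf (gE core dT3.ky)) →
    IsConj (gE core dT3.ky) (gE core dT3.ky ^ k) ∨ IsConj (gE core dT3.ky)⁻¹ (gE core dT3.ky ^ k) :=
  rat_of_type core typeOK3 25 1 (by decide) cj3 (by decide +kernel)

theorem rat4 : ∀ k : ℕ, Nat.Coprime k (orderOf (gE core dT4.ky)) →
    IsConj (gE core dT4.ky) (gE core dT4.ky ^ k) ∨ IsConj (gE core dT4.ky)⁻¹ (gE core dT4.ky ^ k) :=
  rat_of_type core typeOK4 25 1 (by decide) cj4 (by decide +kernel)

theorem rat5 : ∀ k : ℕ, Nat.Coprime k (orderOf (gE core dT5.ky)) →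
    IsConj (gE core dT5.ky) (gE core dT5.ky ^ k) ∨ IsConj (gE core dT5.ky)⁻¹ (gE core dT5.ky ^ k) :=
  rat_of_type core typeOK5 25 1 (by decide) cj5 (by decide +kernel)

theorem rat6 : ∀ k : ℕ, Nat.Coprime k (orderOf (gE core dT6.ky)) →
    IsConj (gE core dT6.ky) (gE core dT6.ky ^ k) ∨ IsConj (gE core dT6.ky)⁻¹ (gE core dT6.ky ^ k) :=
  rat_of_type core typeOK6 25 1 (by decide) cj6 (by decide +kernel)

theorem rat7 : ∀ k : ℕ, Nat.Coprime k (orderOf (gE core dT7.ky)) →
    IsConj (gE core dT7.ky) (gE core dT7.ky ^ k) ∨ IsConj (gE core dT7.ky)⁻¹ (gE core dT7.ky ^ k) :=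
  rat_of_type core typeOK7 25 1 (by decide) cj7 (by decide +kernel)

theorem rat8 : ∀ k : ℕ, Nat.Coprime k (orderOf (gE core dT8.ky)) →
    IsConj (gE core dT8.ky) (gE core dT8.ky ^ k) ∨ IsConj (gE core dT8.ky)⁻¹ (gE core dT8.ky ^ k) :=
  rat_of_type core typeOK8 973 2 (by decide) cj8 (by decide +kernel)

theorem rat9 : ∀ k : ℕ, Nat.Coprime k (orderOf (gE core dT9.ky)) →
    IsConj (gE core dT9.ky) (gE core dT9.ky ^ k) ∨ IsConj (gE core dT9.ky)⁻¹ (gE core dT9.ky ^ k) :=
  rat_of_type core typeOK9 25 1 (by decide) cj9 (by decide +kernel)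

theorem rat10 : ∀ k : ℕ, Nat.Coprime k (orderOf (gE core dT10.ky)) →
    IsConj (gE core dT10.ky) (gE core dT10.ky ^ k) ∨ IsConj (gE core dT10.ky)⁻¹ (gE core dT10.ky ^ k) :=
  rat_of_type core typeOK10 25 1 (by decide) cj10 (by decide +kernel)

theorem rat11 : ∀ k : ℕ, Nat.Coprime k (orderOf (gE core dT11.ky)) →
    IsConj (gE core dT11.ky) (gE core dT11.ky ^ k) ∨ IsConj (gE core dT11.ky)⁻¹ (gE core dT11.ky ^ k) :=
  rat_of_type core typeOK11 991 2 (by decide) cj11 (by decide +kernel)

theorem rat12 : ∀ k : ℕ, Nat.Coprime k (orderOf (gE core dT12.ky)) →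
    IsConj (gE core dT12.ky) (gE core dT12.ky ^ k) ∨ IsConj (gE core dT12.ky)⁻¹ (gE core dT12.ky ^ k) :=
  rat_of_type core typeOK12 1000 3 (by decide) cj12 (by decide +kernel)

theorem rat13 : ∀ k : ℕ, Nat.Coprime k (orderOf (gE core dT13.ky)) →
    IsConj (gE core dT13.ky) (gE core dT13.ky ^ k) ∨ IsConj (gE core dT13.ky)⁻¹ (gE core dT13.ky ^ k) :=
  rat_of_type core typeOK13 1010 3 (by decide) cj13 (by decide +kernel)

theorem rat14 : ∀ k : ℕ, Nat.Coprime k (orderOf (gE core dT14.ky)) →
    IsConj (gE core dT14.ky) (gE core dT14.ky ^ k) ∨ IsConj (gE core dT14.ky)⁻¹ (gE core dT14.ky ^ k) :=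
  rat_of_type core typeOK14 1022 2 (by decide) cj14 (by decide +kernel)

theorem rat15 : ∀ k : ℕ, Nat.Coprime k (orderOf (gE core dT15.ky)) →
    IsConj (gE core dT15.ky) (gE core dT15.ky ^ k) ∨ IsConj (gE core dT15.ky)⁻¹ (gE core dT15.ky ^ k) :=
  rat_of_type core typeOK15 1035 5 (by decide) cj15 (by decide +kernel)

theorem rat16 : ∀ k : ℕ, Nat.Coprime k (orderOf (gE core dT16.ky)) →
    IsConj (gE core dT16.ky) (gE core dT16.ky ^ k) ∨ IsConj (gE core dT16.ky)⁻¹ (gE core dT16.ky ^ k) :=
  rat_of_type core typeOK16 1047 5 (by decide) cj16 (by decide +kernel)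

theorem rat17 : ∀ k : ℕ, Nat.Coprime k (orderOf (gE core dT17.ky)) →
    IsConj (gE core dT17.ky) (gE core dT17.ky ^ k) ∨ IsConj (gE core dT17.ky)⁻¹ (gE core dT17.ky ^ k) :=
  rat_of_type core typeOK17 1061 9 (by decide) cj17 (by decide +kernel)

theorem rat18 : ∀ k : ℕ, Nat.Coprime k (orderOf (gE core dT18.ky)) →
    IsConj (gE core dT18.ky) (gE core dT18.ky ^ k) ∨ IsConj (gE core dT18.ky)⁻¹ (gE core dT18.ky ^ k) :=
  rat_of_type core typeOK18 1075 2 (by decide) cj18 (by decide +kernel)

theorem rat19 : ∀ k : ℕ, Nat.Coprime k (orderOf (gE core dT19.ky)) →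
    IsConj (gE core dT19.ky) (gE core dT19.ky ^ k) ∨ IsConj (gE core dT19.ky)⁻¹ (gE core dT19.ky ^ k) :=
  rat_of_type core typeOK19 1097 2 (by decide) cj19 (by decide +kernel)

theorem rat20 : ∀ k : ℕ, Nat.Coprime k (orderOf (gE core dT20.ky)) →
    IsConj (gE core dT20.ky) (gE core dT20.ky ^ k) ∨ IsConj (gE core dT20.ky)⁻¹ (gE core dT20.ky ^ k) :=
  rat_of_type core typeOK20 1121 2 (by decide) cj20 (by decide +kernel)

theorem rat : ∀ (i : Fin 21) (k : ℕ), Nat.Coprime k (orderOf (tG i)) →
    IsConj (tG i) (tG i ^ k) ∨ IsConj (tG i)⁻¹ (tG i ^ k) := by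
  intro i
  fin_cases i
  · intro k _
    left
    show IsConj (tG 0) (tG 0 ^ k)
    rw [tG0, one_pow]
  · exact rat1
  · exact rat2
  · exact rat3
  · exact rat4
  · exact rat5
  · exact rat6
  · exact rat7
  · exact rat8
  · exact rat9
  · exact rat10
  · exact rat11
  · exact rat12
  · exact rat13
  · exact rat14
  · exact rat15
  · exact rat16
  · exact rat17
  · exact rat18
  · exact rat19
  · exact rat20


theorem hcover (g : ↥(GS core)) : IsConj (tG (tyG g)) g ∨ IsConj (tG (tyG g))⁻¹ g :=
  isConj_of_Cj (rat (tyG g)) (cov.2 g)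

theorem h0 (x : ↥(GS core)) (hx : tyG x = 0) : x = 1 :=
  ty_eq_zero core (by decide) (by decide) (by decide) hx

theorem sq0 : tyG (tG 0 * tG 0) = sqF 0 := by
  rw [tG0, mul_one, ← tG0]
  exact rep0

theorem sq1 : tyG (tG ⟨1, by decide⟩ * tG ⟨1, by decide⟩) = sqF ⟨1, by decide⟩ := by
  show tyG (gE core dT1.ky * gE core dT1.ky) = _
  rw [sq_of_type core typeOK1]
  exact ty_of_chk core dCodes dDs 20 _ 0 (by decide) tysq1

theorem sq2 : tyG (tG ⟨2, by decide⟩ * tG ⟨2, by decide⟩) = sqF ⟨2, by decide⟩ := by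
  show tyG (gE core dT2.ky * gE core dT2.ky) = _
  rw [sq_of_type core typeOK2]
  exact ty_of_chk core dCodes dDs 20 _ 0 (by decide) tysq2

theorem sq3 : tyG (tG ⟨3, by decide⟩ * tG ⟨3, by decide⟩) = sqF ⟨3, by decide⟩ := by
  show tyG (gE core dT3.ky * gE core dT3.ky) = _
  rw [sq_of_type core typeOK3]
  exact ty_of_chk core dCodes dDs 20 _ 3 (by decide) tysq3

theorem sq4 : tyG (tG ⟨4, by decide⟩ * tG ⟨4, by decide⟩) = sqF ⟨4, by decide⟩ := by
  show tyG (gE core dT4.ky * gE core dT4.ky) = _
  rw [sq_of_type core typeOK4]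
  exact ty_of_chk core dCodes dDs 20 _ 4 (by decide) tysq4

theorem sq5 : tyG (tG ⟨5, by decide⟩ * tG ⟨5, by decide⟩) = sqF ⟨5, by decide⟩ := by
  show tyG (gE core dT5.ky * gE core dT5.ky) = _
  rw [sq_of_type core typeOK5]
  exact ty_of_chk core dCodes dDs 20 _ 1 (by decide) tysq5

theorem sq6 : tyG (tG ⟨6, by decide⟩ * tG ⟨6, by decide⟩) = sqF ⟨6, by decide⟩ := by
  show tyG (gE core dT6.ky * gE core dT6.ky) = _
  rw [sq_of_type core typeOK6]
  exact ty_of_chk core dCodes dDs 20 _ 2 (by decide) tysq6

theorem sq7 : tyG (tG ⟨7, by decide⟩ * tG ⟨7, by decide⟩) = sqF ⟨7, by decide⟩ := by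
  show tyG (gE core dT7.ky * gE core dT7.ky) = _
  rw [sq_of_type core typeOK7]
  exact ty_of_chk core dCodes dDs 20 _ 2 (by decide) tysq7

theorem sq8 : tyG (tG ⟨8, by decide⟩ * tG ⟨8, by decide⟩) = sqF ⟨8, by decide⟩ := by
  show tyG (gE core dT8.ky * gE core dT8.ky) = _
  rw [sq_of_type core typeOK8]
  exact ty_of_chk core dCodes dDs 20 _ 8 (by decide) tysq8

theorem sq9 : tyG (tG ⟨9, by decide⟩ * tG ⟨9, by decide⟩) = sqF ⟨9, by decide⟩ := by
  show tyG (gE core dT9.ky * gE core dT9.ky) = _
  rw [sq_of_type core typeOK9]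
  exact ty_of_chk core dCodes dDs 20 _ 3 (by decide) tysq9

theorem sq10 : tyG (tG ⟨10, by decide⟩ * tG ⟨10, by decide⟩) = sqF ⟨10, by decide⟩ := by
  show tyG (gE core dT10.ky * gE core dT10.ky) = _
  rw [sq_of_type core typeOK10]
  exact ty_of_chk core dCodes dDs 20 _ 4 (by decide) tysq10

theorem sq11 : tyG (tG ⟨11, by decide⟩ * tG ⟨11, by decide⟩) = sqF ⟨11, by decide⟩ := by
  show tyG (gE core dT11.ky * gE core dT11.ky) = _
  rw [sq_of_type core typeOK11]
  exact ty_of_chk core dCodes dDs 20 _ 11 (by decide) tysq11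

theorem sq12 : tyG (tG ⟨12, by decide⟩ * tG ⟨12, by decide⟩) = sqF ⟨12, by decide⟩ := by
  show tyG (gE core dT12.ky * gE core dT12.ky) = _
  rw [sq_of_type core typeOK12]
  exact ty_of_chk core dCodes dDs 20 _ 7 (by decide) tysq12

theorem sq13 : tyG (tG ⟨13, by decide⟩ * tG ⟨13, by decide⟩) = sqF ⟨13, by decide⟩ := by
  show tyG (gE core dT13.ky * gE core dT13.ky) = _
  rw [sq_of_type core typeOK13]
  exact ty_of_chk core dCodes dDs 20 _ 8 (by decide) tysq13

theorem sq14 : tyG (tG ⟨14, by decide⟩ * tG ⟨14, by decide⟩) = sqF ⟨14, by decide⟩ := by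
  show tyG (gE core dT14.ky * gE core dT14.ky) = _
  rw [sq_of_type core typeOK14]
  exact ty_of_chk core dCodes dDs 20 _ 14 (by decide) tysq14

theorem sq15 : tyG (tG ⟨15, by decide⟩ * tG ⟨15, by decide⟩) = sqF ⟨15, by decide⟩ := by
  show tyG (gE core dT15.ky * gE core dT15.ky) = _
  rw [sq_of_type core typeOK15]
  exact ty_of_chk core dCodes dDs 20 _ 9 (by decide) tysq15

theorem sq16 : tyG (tG ⟨16, by decide⟩ * tG ⟨16, by decide⟩) = sqF ⟨16, by decide⟩ := by
  show tyG (gE core dT16.ky * gE core dT16.ky) = _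
  rw [sq_of_type core typeOK16]
  exact ty_of_chk core dCodes dDs 20 _ 10 (by decide) tysq16

theorem sq17 : tyG (tG ⟨17, by decide⟩ * tG ⟨17, by decide⟩) = sqF ⟨17, by decide⟩ := by
  show tyG (gE core dT17.ky * gE core dT17.ky) = _
  rw [sq_of_type core typeOK17]
  exact ty_of_chk core dCodes dDs 20 _ 11 (by decide) tysq17

theorem sq18 : tyG (tG ⟨18, by decide⟩ * tG ⟨18, by decide⟩) = sqF ⟨18, by decide⟩ := by
  show tyG (gE core dT18.ky * gE core dT18.ky) = _
  rw [sq_of_type core typeOK18]
  exact ty_of_chk core dCodes dDs 20 _ 18 (by decide) tysq18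

theorem sq19 : tyG (tG ⟨19, by decide⟩ * tG ⟨19, by decide⟩) = sqF ⟨19, by decide⟩ := by
  show tyG (gE core dT19.ky * gE core dT19.ky) = _
  rw [sq_of_type core typeOK19]
  exact ty_of_chk core dCodes dDs 20 _ 19 (by decide) tysq19

theorem sq20 : tyG (tG ⟨20, by decide⟩ * tG ⟨20, by decide⟩) = sqF ⟨20, by decide⟩ := by
  show tyG (gE core dT20.ky * gE core dT20.ky) = _
  rw [sq_of_type core typeOK20]
  exact ty_of_chk core dCodes dDs 20 _ 20 (by decide) tysq20

theorem sq : ∀ i : Fin 21, tyG (tG i * tG i) = sqF i := by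
  intro i
  fin_cases i
  · exact sq0
  · exact sq1
  · exact sq2
  · exact sq3
  · exact sq4
  · exact sq5
  · exact sq6
  · exact sq7
  · exact sq8
  · exact sq9
  · exact sq10
  · exact sq11
  · exact sq12
  · exact sq13
  · exact sq14
  · exact sq15
  · exact sq16
  · exact sq17
  · exact sq18
  · exact sq19
  · exact sq20


theorem sqrts_mul (z : ↥(GS core)) : (sqrts z).card * mF (tyG z) =
    ∑ i : Fin 21, if sqF i = tyG z then mF i else 0 := by
  have h1 := card_sqrts_mul tyG tG tyG_conj tyG_inv hcover z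
  rw [cov.1] at h1
  rw [h1]
  apply Finset.sum_congr rfl
  intro i _
  rw [sq i, cov.1 i]

/-- the entries of the store are checked. -/
theorem hS : ∀ j, j < dS.c → entChk dD dS j = true := by
  intro j hj
  have hq : ∀ q, q < 32 → allC (entChk dD dS) q 1352 = true := by
    intro q hq
    interval_cases q
    · exact ent_0
    · exact ent_1
    · exact ent_2
    · exact ent_3
    · exact ent_4
    · exact ent_5
    · exact ent_6
    · exact ent_7
    · exact ent_8
    · exact ent_9
    · exact ent_10
    · exact ent_11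
    · exact ent_12
    · exact ent_13
    · exact ent_14
    · exact ent_15
    · exact ent_16
    · exact ent_17
    · exact ent_18
    · exact ent_19
    · exact ent_20
    · exact ent_21
    · exact ent_22
    · exact ent_23
    · exact ent_24
    · exact ent_25
    · exact ent_26
    · exact ent_27
    · exact ent_28
    · exact ent_29
    · exact ent_30
    · exact ent_31
  exact allC_true hq (by
    have : dS.c = 32 * 1352 := rfl
    omega)

/-- the elements of the store. -/
def elS (j : ℕ) : ↥(GS core) := sE core dS hS j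

theorem hcompS : ∀ k, k < dS.c → Comp (elS k).1 (TLf dD (tget dS.tree k)) :=
  fun _ hk => comp_sE core dS hS hk

/-- the bounds of the keys of the parts of the store. -/
def bdF (q : ℕ) : ℕ := nthN [0, 3354386498832, 15483407698706, 281492492257546, 281569684821271, 581642004926227, 858735761297418, 1134726433736197, 1409578437902342, 1430499189260305, 1706497948194048, 1982492832896777, 2257392080453903, 2534400122425602, 2554255790637832, 2831259839632660, 3106146488750082, 3382145095631631, 3403023183906309, 3679026171286547, 3953925569515797, 4229916107608324, 4506923950083842, 4526784247829512, 4802688467796495, 5078683116440080, 5354686388703489, 5630680701929487, 5650450519365129, 5926441024882448, 6203453245162771, 6479448129208578, 72057594037927936] q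

theorem rootS : rootChkG dD (tget dS.tree) dS.c dC.bs (tget dD.tree 25) (rangeL 0 (32 * 1352))
    (bdF 0) (bdF 32) = true := by
  apply rootChkG_chunks
  intro q hq
  interval_cases q
  · exact rootS_0
  · exact rootS_1
  · exact rootS_2
  · exact rootS_3
  · exact rootS_4
  · exact rootS_5
  · exact rootS_6
  · exact rootS_7
  · exact rootS_8
  · exact rootS_9
  · exact rootS_10
  · exact rootS_11
  · exact rootS_12
  · exact rootS_13
  · exact rootS_14
  · exact rootS_15
  · exact rootS_16
  · exact rootS_17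
  · exact rootS_18
  · exact rootS_19
  · exact rootS_20
  · exact rootS_21
  · exact rootS_22
  · exact rootS_23
  · exact rootS_24
  · exact rootS_25
  · exact rootS_26
  · exact rootS_27
  · exact rootS_28
  · exact rootS_29
  · exact rootS_30
  · exact rootS_31


theorem tzS : tyG (gE core 25) = 0 := ty_of_chk core dCodes dDs 20 25 0 (by decide) tyrep0

theorem lnS : (sqrts (gE core 25)).card = 43264 := by
  have h1 := sqrts_mul (gE core 25)
  rw [tzS] at h1
  have h2 : (∑ i : Fin 21, if sqF i = (0 : Fin 21) then mF i else 0) = 43264 * mF 0 := by decide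
  rw [h2] at h1
  have hpos : 0 < mF 0 := by decide
  exact Nat.eq_of_mul_eq_mul_right hpos h1

theorem z1 : tG ⟨1, by decide⟩ ^ (2 * 0 + 1) = gE core 26 := pow_of_type core typeOK1 _

theorem s1 : (tG ⟨1, by decide⟩ ^ 0)⁻¹ = gE core 25 := inv_pow_of_type core typeOK1 0 (by decide)

theorem tz1 : tyG (gE core 26) = ⟨1, by decide⟩ := ty_of_chk core dCodes dDs 20 26 1 (by decide) tyz1

theorem ln1 : (sqrts (gE core 26)).card = 80 := by
  have h1 := sqrts_mul (gE core 26)
  rw [tz1] at h1
  have h2 : (∑ i : Fin 21, if sqF i = (⟨1, by decide⟩ : Fin 21) then mF i else 0) =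
      80 * mF ⟨1, by decide⟩ := by decide
  rw [h2] at h1
  have hpos : 0 < mF ⟨1, by decide⟩ := by decide
  exact Nat.eq_of_mul_eq_mul_right hpos h1

theorem col1 (i : Fin 21) : rhoF ⟨1, by decide⟩ < rhoF i ∨ (⟨1, by decide⟩ : Fin 21) = 0 ∨
    Even (roots tyG i (tG ⟨1, by decide⟩) 0).card := by
  have hb : rhoF ⟨1, by decide⟩ < rhoF i ∨ Nat.testBit 0 i.val = false := by
    revert i
    decide
  rcases hb with hb | hb
  · exact Or.inl hb
  · right; right
    have h1 := even_roots core dC.bs hbs 26 (by decide) dCodes dDs 20 25 (by decide) dL1 0 72057594037927936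
      root1 (by rw [len1, ln1]) i (by rw [Nat.eq_of_beq_eq_true par1]; exact hb)
    have e : roots tyG i (tG ⟨1, by decide⟩) 0 =
        (sqrts (gE core 26)).filter (fun u => ty core dCodes dDs 20 (u * gE core 25) = i) := by
      unfold roots sqrts
      rw [Finset.filter_filter, z1, s1]
      rfl
    rw [e]
    exact h1

theorem z2 : tG ⟨2, by decide⟩ ^ (2 * 0 + 1) = gE core 27 := pow_of_type core typeOK2 _

theorem s2 : (tG ⟨2, by decide⟩ ^ 0)⁻¹ = gE core 25 := inv_pow_of_type core typeOK2 0 (by decide)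

theorem tz2 : tyG (gE core 27) = ⟨2, by decide⟩ := ty_of_chk core dCodes dDs 20 27 2 (by decide) tyz2

theorem ln2 : (sqrts (gE core 27)).card = 224 := by
  have h1 := sqrts_mul (gE core 27)
  rw [tz2] at h1
  have h2 : (∑ i : Fin 21, if sqF i = (⟨2, by decide⟩ : Fin 21) then mF i else 0) =
      224 * mF ⟨2, by decide⟩ := by decide
  rw [h2] at h1
  have hpos : 0 < mF ⟨2, by decide⟩ := by decide
  exact Nat.eq_of_mul_eq_mul_right hpos h1

theorem col2 (i : Fin 21) : rhoF ⟨2, by decide⟩ < rhoF i ∨ (⟨2, by decide⟩ : Fin 21) = 0 ∨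
    Even (roots tyG i (tG ⟨2, by decide⟩) 0).card := by
  have hb : rhoF ⟨2, by decide⟩ < rhoF i ∨ Nat.testBit 0 i.val = false := by
    revert i
    decide
  rcases hb with hb | hb
  · exact Or.inl hb
  · right; right
    have h1 := even_roots core dC.bs hbs 27 (by decide) dCodes dDs 20 25 (by decide) dL2 0 72057594037927936
      root2 (by rw [len2, ln2]) i (by rw [Nat.eq_of_beq_eq_true par2]; exact hb)
    have e : roots tyG i (tG ⟨2, by decide⟩) 0 =
        (sqrts (gE core 27)).filter (fun u => ty core dCodes dDs 20 (u * gE core 25) = i) := by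
      unfold roots sqrts
      rw [Finset.filter_filter, z2, s2]
      rfl
    rw [e]
    exact h1

theorem z3 : tG ⟨3, by decide⟩ ^ (2 * 1 + 1) = gE core 25 := pow_of_type core typeOK3 _

theorem s3 : (tG ⟨3, by decide⟩ ^ 1)⁻¹ = gE core 957 := inv_pow_of_type core typeOK3 1 (by decide)

theorem parS3 : parG dD (tget dS.tree) dCodes dDs 20 (tget dD.tree 957) (rangeL 0 (32 * 1352)) = 6 := by
  have h1 := parG_chunks (D := dD) (tget dS.tree) dCodes dDs 20 (tget dD.tree 957) 1352 (nthN [534276, 390728, 902156, 16512, 2436, 1355338, 1844906, 558824, 1296298, 1943400, 1740450, 1529570, 1478026, 109322, 1987778, 1008936, 1844226, 1637856, 1411816, 1692066, 22560, 414186, 947778, 766336, 1591080, 947016, 488810, 461698, 2013824, 1888896, 543112, 1235458]) 32 (by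
    intro q hq
    interval_cases q
    · show _ = 534276
      have h := Nat.eq_of_beq_eq_true parS3_0
      exact h
    · show _ = 390728
      have h := Nat.eq_of_beq_eq_true parS3_1
      exact h
    · show _ = 902156
      have h := Nat.eq_of_beq_eq_true parS3_2
      exact h
    · show _ = 16512
      have h := Nat.eq_of_beq_eq_true parS3_3
      exact h
    · show _ = 2436
      have h := Nat.eq_of_beq_eq_true parS3_4
      exact h
    · show _ = 1355338
      have h := Nat.eq_of_beq_eq_true parS3_5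
      exact h
    · show _ = 1844906
      have h := Nat.eq_of_beq_eq_true parS3_6
      exact h
    · show _ = 558824
      have h := Nat.eq_of_beq_eq_true parS3_7
      exact h
    · show _ = 1296298
      have h := Nat.eq_of_beq_eq_true parS3_8
      exact h
    · show _ = 1943400
      have h := Nat.eq_of_beq_eq_true parS3_9
      exact h
    · show _ = 1740450
      have h := Nat.eq_of_beq_eq_true parS3_10
      exact h
    · show _ = 1529570
      have h := Nat.eq_of_beq_eq_true parS3_11
      exact h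
    · show _ = 1478026
      have h := Nat.eq_of_beq_eq_true parS3_12
      exact h
    · show _ = 109322
      have h := Nat.eq_of_beq_eq_true parS3_13
      exact h
    · show _ = 1987778
      have h := Nat.eq_of_beq_eq_true parS3_14
      exact h
    · show _ = 1008936
      have h := Nat.eq_of_beq_eq_true parS3_15
      exact h
    · show _ = 1844226
      have h := Nat.eq_of_beq_eq_true parS3_16
      exact h
    · show _ = 1637856
      have h := Nat.eq_of_beq_eq_true parS3_17
      exact h
    · show _ = 1411816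
      have h := Nat.eq_of_beq_eq_true parS3_18
      exact h
    · show _ = 1692066
      have h := Nat.eq_of_beq_eq_true parS3_19
      exact h
    · show _ = 22560
      have h := Nat.eq_of_beq_eq_true parS3_20
      exact h
    · show _ = 414186
      have h := Nat.eq_of_beq_eq_true parS3_21
      exact h
    · show _ = 947778
      have h := Nat.eq_of_beq_eq_true parS3_22
      exact h
    · show _ = 766336
      have h := Nat.eq_of_beq_eq_true parS3_23
      exact h
    · show _ = 1591080
      have h := Nat.eq_of_beq_eq_true parS3_24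
      exact h
    · show _ = 947016
      have h := Nat.eq_of_beq_eq_true parS3_25
      exact h
    · show _ = 488810
      have h := Nat.eq_of_beq_eq_true parS3_26
      exact h
    · show _ = 461698
      have h := Nat.eq_of_beq_eq_true parS3_27
      exact h
    · show _ = 2013824
      have h := Nat.eq_of_beq_eq_true parS3_28
      exact h
    · show _ = 1888896
      have h := Nat.eq_of_beq_eq_true parS3_29
      exact h
    · show _ = 543112
      have h := Nat.eq_of_beq_eq_true parS3_30
      exact h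
    · show _ = 1235458
      have h := Nat.eq_of_beq_eq_true parS3_31
      exact h
    )
  rw [h1]
  decide +kernel

theorem col3 (i : Fin 21) : rhoF ⟨3, by decide⟩ < rhoF i ∨ (⟨3, by decide⟩ : Fin 21) = 0 ∨
    Even (roots tyG i (tG ⟨3, by decide⟩) 1).card := by
  have hb : rhoF ⟨3, by decide⟩ < rhoF i ∨ Nat.testBit 6 i.val = false := by
    revert i
    decide
  rcases hb with hb | hb
  · exact Or.inl hb
  · right; right
    have h1 := even_rootsG core (tget dS.tree) dS.c elS hcompS dC.bs hbs 25 (by decide) dCodes dDs 20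
      957 (by decide) (rangeL 0 (32 * 1352)) (bdF 0) (bdF 32) rootS
      (by rw [length_rangeL, lnS]) i (by rw [parS3]; exact hb)
    have e : roots tyG i (tG ⟨3, by decide⟩) 1 =
        (sqrts (gE core 25)).filter (fun u => ty core dCodes dDs 20 (u * gE core 957) = i) := by
      unfold roots sqrts
      rw [Finset.filter_filter, z3, s3]
      rfl
    rw [e]
    exact h1

theorem z4 : tG ⟨4, by decide⟩ ^ (2 * 1 + 1) = gE core 25 := pow_of_type core typeOK4 _

theorem s4 : (tG ⟨4, by decide⟩ ^ 1)⁻¹ = gE core 959 := inv_pow_of_type core typeOK4 1 (by decide)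

theorem parS4 : parG dD (tget dS.tree) dCodes dDs 20 (tget dD.tree 959) (rangeL 0 (32 * 1352)) = 6 := by
  have h1 := parG_chunks (D := dD) (tget dS.tree) dCodes dDs 20 (tget dD.tree 959) 1352 (nthN [1040, 137344, 1181712, 1315984, 411920, 228096, 664208, 1655830, 588022, 72288, 356048, 2005798, 18422, 1238832, 1214352, 9606, 356480, 271782, 1438496, 1168816, 1839200, 795894, 1341238, 1578726, 778704, 1724166, 820608, 255792, 587968, 991296, 1684032, 1687910]) 32 (by
    intro q hq
    interval_cases q
    · show _ = 1040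
      have h := Nat.eq_of_beq_eq_true parS4_0
      exact h
    · show _ = 137344
      have h := Nat.eq_of_beq_eq_true parS4_1
      exact h
    · show _ = 1181712
      have h := Nat.eq_of_beq_eq_true parS4_2
      exact h
    · show _ = 1315984
      have h := Nat.eq_of_beq_eq_true parS4_3
      exact h
    · show _ = 411920
      have h := Nat.eq_of_beq_eq_true parS4_4
      exact h
    · show _ = 228096
      have h := Nat.eq_of_beq_eq_true parS4_5
      exact h
    · show _ = 664208
      have h := Nat.eq_of_beq_eq_true parS4_6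
      exact h
    · show _ = 1655830
      have h := Nat.eq_of_beq_eq_true parS4_7
      exact h
    · show _ = 588022
      have h := Nat.eq_of_beq_eq_true parS4_8
      exact h
    · show _ = 72288
      have h := Nat.eq_of_beq_eq_true parS4_9
      exact h
    · show _ = 356048
      have h := Nat.eq_of_beq_eq_true parS4_10
      exact h
    · show _ = 2005798
      have h := Nat.eq_of_beq_eq_true parS4_11
      exact h
    · show _ = 18422
      have h := Nat.eq_of_beq_eq_true parS4_12
      exact h
    · show _ = 1238832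
      have h := Nat.eq_of_beq_eq_true parS4_13
      exact h
    · show _ = 1214352
      have h := Nat.eq_of_beq_eq_true parS4_14
      exact h
    · show _ = 9606
      have h := Nat.eq_of_beq_eq_true parS4_15
      exact h
    · show _ = 356480
      have h := Nat.eq_of_beq_eq_true parS4_16
      exact h
    · show _ = 271782
      have h := Nat.eq_of_beq_eq_true parS4_17
      exact h
    · show _ = 1438496
      have h := Nat.eq_of_beq_eq_true parS4_18
      exact h
    · show _ = 1168816
      have h := Nat.eq_of_beq_eq_true parS4_19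
      exact h
    · show _ = 1839200
      have h := Nat.eq_of_beq_eq_true parS4_20
      exact h
    · show _ = 795894
      have h := Nat.eq_of_beq_eq_true parS4_21
      exact h
    · show _ = 1341238
      have h := Nat.eq_of_beq_eq_true parS4_22
      exact h
    · show _ = 1578726
      have h := Nat.eq_of_beq_eq_true parS4_23
      exact h
    · show _ = 778704
      have h := Nat.eq_of_beq_eq_true parS4_24
      exact h
    · show _ = 1724166
      have h := Nat.eq_of_beq_eq_true parS4_25
      exact h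
    · show _ = 820608
      have h := Nat.eq_of_beq_eq_true parS4_26
      exact h
    · show _ = 255792
      have h := Nat.eq_of_beq_eq_true parS4_27
      exact h
    · show _ = 587968
      have h := Nat.eq_of_beq_eq_true parS4_28
      exact h
    · show _ = 991296
      have h := Nat.eq_of_beq_eq_true parS4_29
      exact h
    · show _ = 1684032
      have h := Nat.eq_of_beq_eq_true parS4_30
      exact h
    · show _ = 1687910
      have h := Nat.eq_of_beq_eq_true parS4_31
      exact h
    )
  rw [h1]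
  decide +kernel

theorem col4 (i : Fin 21) : rhoF ⟨4, by decide⟩ < rhoF i ∨ (⟨4, by decide⟩ : Fin 21) = 0 ∨
    Even (roots tyG i (tG ⟨4, by decide⟩) 1).card := by
  have hb : rhoF ⟨4, by decide⟩ < rhoF i ∨ Nat.testBit 6 i.val = false := by
    revert i
    decide
  rcases hb with hb | hb
  · exact Or.inl hb
  · right; right
    have h1 := even_rootsG core (tget dS.tree) dS.c elS hcompS dC.bs hbs 25 (by decide) dCodes dDs 20
      959 (by decide) (rangeL 0 (32 * 1352)) (bdF 0) (bdF 32) rootS
      (by rw [length_rangeL, lnS]) i (by rw [parS4]; exact hb)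
    have e : roots tyG i (tG ⟨4, by decide⟩) 1 =
        (sqrts (gE core 25)).filter (fun u => ty core dCodes dDs 20 (u * gE core 959) = i) := by
      unfold roots sqrts
      rw [Finset.filter_filter, z4, s4]
      rfl
    rw [e]
    exact h1

theorem z5 : tG ⟨5, by decide⟩ ^ (2 * 0 + 1) = gE core 960 := pow_of_type core typeOK5 _

theorem s5 : (tG ⟨5, by decide⟩ ^ 0)⁻¹ = gE core 25 := inv_pow_of_type core typeOK5 0 (by decide)

theorem tz5 : tyG (gE core 960) = ⟨5, by decide⟩ := ty_of_chk core dCodes dDs 20 960 5 (by decide) tyz5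

theorem ln5 : (sqrts (gE core 960)).card = 0 := by
  have h1 := sqrts_mul (gE core 960)
  rw [tz5] at h1
  have h2 : (∑ i : Fin 21, if sqF i = (⟨5, by decide⟩ : Fin 21) then mF i else 0) =
      0 * mF ⟨5, by decide⟩ := by decide
  rw [h2] at h1
  have hpos : 0 < mF ⟨5, by decide⟩ := by decide
  exact Nat.eq_of_mul_eq_mul_right hpos h1

theorem col5 (i : Fin 21) : rhoF ⟨5, by decide⟩ < rhoF i ∨ (⟨5, by decide⟩ : Fin 21) = 0 ∨
    Even (roots tyG i (tG ⟨5, by decide⟩) 0).card := by
  have hb : rhoF ⟨5, by decide⟩ < rhoF i ∨ Nat.testBit 0 i.val = false := by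
    revert i
    decide
  rcases hb with hb | hb
  · exact Or.inl hb
  · right; right
    have h1 := even_roots core dC.bs hbs 960 (by decide) dCodes dDs 20 25 (by decide) dL5 0 72057594037927936
      root5 (by rw [len5, ln5]) i (by rw [Nat.eq_of_beq_eq_true par5]; exact hb)
    have e : roots tyG i (tG ⟨5, by decide⟩) 0 =
        (sqrts (gE core 960)).filter (fun u => ty core dCodes dDs 20 (u * gE core 25) = i) := by
      unfold roots sqrts
      rw [Finset.filter_filter, z5, s5]
      rfl
    rw [e]
    exact h1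

theorem z6 : tG ⟨6, by decide⟩ ^ (2 * 0 + 1) = gE core 963 := pow_of_type core typeOK6 _

theorem s6 : (tG ⟨6, by decide⟩ ^ 0)⁻¹ = gE core 25 := inv_pow_of_type core typeOK6 0 (by decide)

theorem tz6 : tyG (gE core 963) = ⟨6, by decide⟩ := ty_of_chk core dCodes dDs 20 963 6 (by decide) tyz6

theorem ln6 : (sqrts (gE core 963)).card = 0 := by
  have h1 := sqrts_mul (gE core 963)
  rw [tz6] at h1
  have h2 : (∑ i : Fin 21, if sqF i = (⟨6, by decide⟩ : Fin 21) then mF i else 0) =
      0 * mF ⟨6, by decide⟩ := by decide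
  rw [h2] at h1
  have hpos : 0 < mF ⟨6, by decide⟩ := by decide
  exact Nat.eq_of_mul_eq_mul_right hpos h1

theorem col6 (i : Fin 21) : rhoF ⟨6, by decide⟩ < rhoF i ∨ (⟨6, by decide⟩ : Fin 21) = 0 ∨
    Even (roots tyG i (tG ⟨6, by decide⟩) 0).card := by
  have hb : rhoF ⟨6, by decide⟩ < rhoF i ∨ Nat.testBit 0 i.val = false := by
    revert i
    decide
  rcases hb with hb | hb
  · exact Or.inl hb
  · right; right
    have h1 := even_roots core dC.bs hbs 963 (by decide) dCodes dDs 20 25 (by decide) dL6 0 72057594037927936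
      root6 (by rw [len6, ln6]) i (by rw [Nat.eq_of_beq_eq_true par6]; exact hb)
    have e : roots tyG i (tG ⟨6, by decide⟩) 0 =
        (sqrts (gE core 963)).filter (fun u => ty core dCodes dDs 20 (u * gE core 25) = i) := by
      unfold roots sqrts
      rw [Finset.filter_filter, z6, s6]
      rfl
    rw [e]
    exact h1

theorem z7 : tG ⟨7, by decide⟩ ^ (2 * 0 + 1) = gE core 966 := pow_of_type core typeOK7 _

theorem s7 : (tG ⟨7, by decide⟩ ^ 0)⁻¹ = gE core 25 := inv_pow_of_type core typeOK7 0 (by decide)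

theorem tz7 : tyG (gE core 966) = ⟨7, by decide⟩ := ty_of_chk core dCodes dDs 20 966 7 (by decide) tyz7

theorem ln7 : (sqrts (gE core 966)).card = 8 := by
  have h1 := sqrts_mul (gE core 966)
  rw [tz7] at h1
  have h2 : (∑ i : Fin 21, if sqF i = (⟨7, by decide⟩ : Fin 21) then mF i else 0) =
      8 * mF ⟨7, by decide⟩ := by decide
  rw [h2] at h1
  have hpos : 0 < mF ⟨7, by decide⟩ := by decide
  exact Nat.eq_of_mul_eq_mul_right hpos h1

theorem col7 (i : Fin 21) : rhoF ⟨7, by decide⟩ < rhoF i ∨ (⟨7, by decide⟩ : Fin 21) = 0 ∨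
    Even (roots tyG i (tG ⟨7, by decide⟩) 0).card := by
  have hb : rhoF ⟨7, by decide⟩ < rhoF i ∨ Nat.testBit 0 i.val = false := by
    revert i
    decide
  rcases hb with hb | hb
  · exact Or.inl hb
  · right; right
    have h1 := even_roots core dC.bs hbs 966 (by decide) dCodes dDs 20 25 (by decide) dL7 0 72057594037927936
      root7 (by rw [len7, ln7]) i (by rw [Nat.eq_of_beq_eq_true par7]; exact hb)
    have e : roots tyG i (tG ⟨7, by decide⟩) 0 =
        (sqrts (gE core 966)).filter (fun u => ty core dCodes dDs 20 (u * gE core 25) = i) := by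
      unfold roots sqrts
      rw [Finset.filter_filter, z7, s7]
      rfl
    rw [e]
    exact h1

theorem z8 : tG ⟨8, by decide⟩ ^ (2 * 2 + 1) = gE core 25 := pow_of_type core typeOK8 _

theorem s8 : (tG ⟨8, by decide⟩ ^ 2)⁻¹ = gE core 972 := inv_pow_of_type core typeOK8 2 (by decide)

theorem parS8 : parG dD (tget dS.tree) dCodes dDs 20 (tget dD.tree 972) (rangeL 0 (32 * 1352)) = 6 := by
  have h1 := parG_chunks (D := dD) (tget dS.tree) dCodes dDs 20 (tget dD.tree 972) 1352 (nthN [18692, 284944, 1109256, 639744, 25504, 1780640, 1069224, 967208, 205984, 649816, 2022488, 835904, 932290, 663224, 995544, 721826, 458448, 1704232, 2096192, 255418, 1876176, 2027168, 1159568, 974640, 1479440, 1930648, 1859120, 1843016, 1844376, 1111352, 941528, 1363488]) 32 (by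
    intro q hq
    interval_cases q
    · show _ = 18692
      have h := Nat.eq_of_beq_eq_true parS8_0
      exact h
    · show _ = 284944
      have h := Nat.eq_of_beq_eq_true parS8_1
      exact h
    · show _ = 1109256
      have h := Nat.eq_of_beq_eq_true parS8_2
      exact h
    · show _ = 639744
      have h := Nat.eq_of_beq_eq_true parS8_3
      exact h
    · show _ = 25504
      have h := Nat.eq_of_beq_eq_true parS8_4
      exact h
    · show _ = 1780640
      have h := Nat.eq_of_beq_eq_true parS8_5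
      exact h
    · show _ = 1069224
      have h := Nat.eq_of_beq_eq_true parS8_6
      exact h
    · show _ = 967208
      have h := Nat.eq_of_beq_eq_true parS8_7
      exact h
    · show _ = 205984
      have h := Nat.eq_of_beq_eq_true parS8_8
      exact h
    · show _ = 649816
      have h := Nat.eq_of_beq_eq_true parS8_9
      exact h
    · show _ = 2022488
      have h := Nat.eq_of_beq_eq_true parS8_10
      exact h
    · show _ = 835904
      have h := Nat.eq_of_beq_eq_true parS8_11
      exact h
    · show _ = 932290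
      have h := Nat.eq_of_beq_eq_true parS8_12
      exact h
    · show _ = 663224
      have h := Nat.eq_of_beq_eq_true parS8_13
      exact h
    · show _ = 995544
      have h := Nat.eq_of_beq_eq_true parS8_14
      exact h
    · show _ = 721826
      have h := Nat.eq_of_beq_eq_true parS8_15
      exact h
    · show _ = 458448
      have h := Nat.eq_of_beq_eq_true parS8_16
      exact h
    · show _ = 1704232
      have h := Nat.eq_of_beq_eq_true parS8_17
      exact h
    · show _ = 2096192
      have h := Nat.eq_of_beq_eq_true parS8_18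
      exact h
    · show _ = 255418
      have h := Nat.eq_of_beq_eq_true parS8_19
      exact h
    · show _ = 1876176
      have h := Nat.eq_of_beq_eq_true parS8_20
      exact h
    · show _ = 2027168
      have h := Nat.eq_of_beq_eq_true parS8_21
      exact h
    · show _ = 1159568
      have h := Nat.eq_of_beq_eq_true parS8_22
      exact h
    · show _ = 974640
      have h := Nat.eq_of_beq_eq_true parS8_23
      exact h
    · show _ = 1479440
      have h := Nat.eq_of_beq_eq_true parS8_24
      exact h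
    · show _ = 1930648
      have h := Nat.eq_of_beq_eq_true parS8_25
      exact h
    · show _ = 1859120
      have h := Nat.eq_of_beq_eq_true parS8_26
      exact h
    · show _ = 1843016
      have h := Nat.eq_of_beq_eq_true parS8_27
      exact h
    · show _ = 1844376
      have h := Nat.eq_of_beq_eq_true parS8_28
      exact h
    · show _ = 1111352
      have h := Nat.eq_of_beq_eq_true parS8_29
      exact h
    · show _ = 941528
      have h := Nat.eq_of_beq_eq_true parS8_30
      exact h
    · show _ = 1363488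
      have h := Nat.eq_of_beq_eq_true parS8_31
      exact h
    )
  rw [h1]
  decide +kernel

theorem col8 (i : Fin 21) : rhoF ⟨8, by decide⟩ < rhoF i ∨ (⟨8, by decide⟩ : Fin 21) = 0 ∨
    Even (roots tyG i (tG ⟨8, by decide⟩) 2).card := by
  have hb : rhoF ⟨8, by decide⟩ < rhoF i ∨ Nat.testBit 6 i.val = false := by
    revert i
    decide
  rcases hb with hb | hb
  · exact Or.inl hb
  · right; right
    have h1 := even_rootsG core (tget dS.tree) dS.c elS hcompS dC.bs hbs 25 (by decide) dCodes dDs 20
      972 (by decide) (rangeL 0 (32 * 1352)) (bdF 0) (bdF 32) rootS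
      (by rw [length_rangeL, lnS]) i (by rw [parS8]; exact hb)
    have e : roots tyG i (tG ⟨8, by decide⟩) 2 =
        (sqrts (gE core 25)).filter (fun u => ty core dCodes dDs 20 (u * gE core 972) = i) := by
      unfold roots sqrts
      rw [Finset.filter_filter, z8, s8]
      rfl
    rw [e]
    exact h1

theorem z9 : tG ⟨9, by decide⟩ ^ (2 * 1 + 1) = gE core 979 := pow_of_type core typeOK9 _

theorem s9 : (tG ⟨9, by decide⟩ ^ 1)⁻¹ = gE core 976 := inv_pow_of_type core typeOK9 1 (by decide)

theorem tz9 : tyG (gE core 979) = ⟨1, by decide⟩ := ty_of_chk core dCodes dDs 20 979 1 (by decide) tyz9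

theorem ln9 : (sqrts (gE core 979)).card = 80 := by
  have h1 := sqrts_mul (gE core 979)
  rw [tz9] at h1
  have h2 : (∑ i : Fin 21, if sqF i = (⟨1, by decide⟩ : Fin 21) then mF i else 0) =
      80 * mF ⟨1, by decide⟩ := by decide
  rw [h2] at h1
  have hpos : 0 < mF ⟨1, by decide⟩ := by decide
  exact Nat.eq_of_mul_eq_mul_right hpos h1

theorem col9 (i : Fin 21) : rhoF ⟨9, by decide⟩ < rhoF i ∨ (⟨9, by decide⟩ : Fin 21) = 0 ∨
    Even (roots tyG i (tG ⟨9, by decide⟩) 1).card := by
  have hb : rhoF ⟨9, by decide⟩ < rhoF i ∨ Nat.testBit 0 i.val = false := by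
    revert i
    decide
  rcases hb with hb | hb
  · exact Or.inl hb
  · right; right
    have h1 := even_roots core dC.bs hbs 979 (by decide) dCodes dDs 20 976 (by decide) dL9 0 72057594037927936
      root9 (by rw [len9, ln9]) i (by rw [Nat.eq_of_beq_eq_true par9]; exact hb)
    have e : roots tyG i (tG ⟨9, by decide⟩) 1 =
        (sqrts (gE core 979)).filter (fun u => ty core dCodes dDs 20 (u * gE core 976) = i) := by
      unfold roots sqrts
      rw [Finset.filter_filter, z9, s9]
      rfl
    rw [e]
    exact h1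

theorem z10 : tG ⟨10, by decide⟩ ^ (2 * 1 + 1) = gE core 984 := pow_of_type core typeOK10 _

theorem s10 : (tG ⟨10, by decide⟩ ^ 1)⁻¹ = gE core 981 := inv_pow_of_type core typeOK10 1 (by decide)

theorem tz10 : tyG (gE core 984) = ⟨2, by decide⟩ := ty_of_chk core dCodes dDs 20 984 2 (by decide) tyz10

theorem ln10 : (sqrts (gE core 984)).card = 224 := by
  have h1 := sqrts_mul (gE core 984)
  rw [tz10] at h1
  have h2 : (∑ i : Fin 21, if sqF i = (⟨2, by decide⟩ : Fin 21) then mF i else 0) =
      224 * mF ⟨2, by decide⟩ := by decide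
  rw [h2] at h1
  have hpos : 0 < mF ⟨2, by decide⟩ := by decide
  exact Nat.eq_of_mul_eq_mul_right hpos h1

theorem col10 (i : Fin 21) : rhoF ⟨10, by decide⟩ < rhoF i ∨ (⟨10, by decide⟩ : Fin 21) = 0 ∨
    Even (roots tyG i (tG ⟨10, by decide⟩) 1).card := by
  have hb : rhoF ⟨10, by decide⟩ < rhoF i ∨ Nat.testBit 0 i.val = false := by
    revert i
    decide
  rcases hb with hb | hb
  · exact Or.inl hb
  · right; right
    have h1 := even_roots core dC.bs hbs 984 (by decide) dCodes dDs 20 981 (by decide) dL10 0 72057594037927936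
      root10 (by rw [len10, ln10]) i (by rw [Nat.eq_of_beq_eq_true par10]; exact hb)
    have e : roots tyG i (tG ⟨10, by decide⟩) 1 =
        (sqrts (gE core 984)).filter (fun u => ty core dCodes dDs 20 (u * gE core 981) = i) := by
      unfold roots sqrts
      rw [Finset.filter_filter, z10, s10]
      rfl
    rw [e]
    exact h1

theorem z11 : tG ⟨11, by decide⟩ ^ (2 * 3 + 1) = gE core 25 := pow_of_type core typeOK11 _

theorem s11 : (tG ⟨11, by decide⟩ ^ 3)⁻¹ = gE core 990 := inv_pow_of_type core typeOK11 3 (by decide)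

theorem parS11 : parG dD (tget dS.tree) dCodes dDs 20 (tget dD.tree 990) (rangeL 0 (32 * 1352)) = 1232 := by
  have h1 := parG_chunks (D := dD) (tget dS.tree) dCodes dDs 20 (tget dD.tree 990) 1352 (nthN [1443088, 285056, 1406848, 1361728, 1726536, 1381960, 1652448, 1548672, 1933184, 868320, 961440, 842272, 1601888, 1394752, 682856, 2090376, 722328, 458488, 681088, 1349256, 1273248, 540568, 848240, 309312, 1346664, 428552, 981952, 1290624, 1636072, 1325664, 1454824, 858080]) 32 (by
    intro q hq
    interval_cases q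
    · show _ = 1443088
      have h := Nat.eq_of_beq_eq_true parS11_0
      exact h
    · show _ = 285056
      have h := Nat.eq_of_beq_eq_true parS11_1
      exact h
    · show _ = 1406848
      have h := Nat.eq_of_beq_eq_true parS11_2
      exact h
    · show _ = 1361728
      have h := Nat.eq_of_beq_eq_true parS11_3
      exact h
    · show _ = 1726536
      have h := Nat.eq_of_beq_eq_true parS11_4
      exact h
    · show _ = 1381960
      have h := Nat.eq_of_beq_eq_true parS11_5
      exact h
    · show _ = 1652448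
      have h := Nat.eq_of_beq_eq_true parS11_6
      exact h
    · show _ = 1548672
      have h := Nat.eq_of_beq_eq_true parS11_7
      exact h
    · show _ = 1933184
      have h := Nat.eq_of_beq_eq_true parS11_8
      exact h
    · show _ = 868320
      have h := Nat.eq_of_beq_eq_true parS11_9
      exact h
    · show _ = 961440
      have h := Nat.eq_of_beq_eq_true parS11_10
      exact h
    · show _ = 842272
      have h := Nat.eq_of_beq_eq_true parS11_11
      exact h
    · show _ = 1601888
      have h := Nat.eq_of_beq_eq_true parS11_12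
      exact h
    · show _ = 1394752
      have h := Nat.eq_of_beq_eq_true parS11_13
      exact h
    · show _ = 682856
      have h := Nat.eq_of_beq_eq_true parS11_14
      exact h
    · show _ = 2090376
      have h := Nat.eq_of_beq_eq_true parS11_15
      exact h
    · show _ = 722328
      have h := Nat.eq_of_beq_eq_true parS11_16
      exact h
    · show _ = 458488
      have h := Nat.eq_of_beq_eq_true parS11_17
      exact h
    · show _ = 681088
      have h := Nat.eq_of_beq_eq_true parS11_18
      exact h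
    · show _ = 1349256
      have h := Nat.eq_of_beq_eq_true parS11_19
      exact h
    · show _ = 1273248
      have h := Nat.eq_of_beq_eq_true parS11_20
      exact h
    · show _ = 540568
      have h := Nat.eq_of_beq_eq_true parS11_21
      exact h
    · show _ = 848240
      have h := Nat.eq_of_beq_eq_true parS11_22
      exact h
    · show _ = 309312
      have h := Nat.eq_of_beq_eq_true parS11_23
      exact h
    · show _ = 1346664
      have h := Nat.eq_of_beq_eq_true parS11_24
      exact h
    · show _ = 428552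
      have h := Nat.eq_of_beq_eq_true parS11_25
      exact h
    · show _ = 981952
      have h := Nat.eq_of_beq_eq_true parS11_26
      exact h
    · show _ = 1290624
      have h := Nat.eq_of_beq_eq_true parS11_27
      exact h
    · show _ = 1636072
      have h := Nat.eq_of_beq_eq_true parS11_28
      exact h
    · show _ = 1325664
      have h := Nat.eq_of_beq_eq_true parS11_29
      exact h
    · show _ = 1454824
      have h := Nat.eq_of_beq_eq_true parS11_30
      exact h
    · show _ = 858080
      have h := Nat.eq_of_beq_eq_true parS11_31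
      exact h
    )
  rw [h1]
  decide +kernel

theorem col11 (i : Fin 21) : rhoF ⟨11, by decide⟩ < rhoF i ∨ (⟨11, by decide⟩ : Fin 21) = 0 ∨
    Even (roots tyG i (tG ⟨11, by decide⟩) 3).card := by
  have hb : rhoF ⟨11, by decide⟩ < rhoF i ∨ Nat.testBit 1232 i.val = false := by
    revert i
    decide
  rcases hb with hb | hb
  · exact Or.inl hb
  · right; right
    have h1 := even_rootsG core (tget dS.tree) dS.c elS hcompS dC.bs hbs 25 (by decide) dCodes dDs 20
      990 (by decide) (rangeL 0 (32 * 1352)) (bdF 0) (bdF 32) rootS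
      (by rw [length_rangeL, lnS]) i (by rw [parS11]; exact hb)
    have e : roots tyG i (tG ⟨11, by decide⟩) 3 =
        (sqrts (gE core 25)).filter (fun u => ty core dCodes dDs 20 (u * gE core 990) = i) := by
      unfold roots sqrts
      rw [Finset.filter_filter, z11, s11]
      rfl
    rw [e]
    exact h1

theorem z12 : tG ⟨12, by decide⟩ ^ (2 * 0 + 1) = gE core 993 := pow_of_type core typeOK12 _

theorem s12 : (tG ⟨12, by decide⟩ ^ 0)⁻¹ = gE core 25 := inv_pow_of_type core typeOK12 0 (by decide)

theorem tz12 : tyG (gE core 993) = ⟨12, by decide⟩ := ty_of_chk core dCodes dDs 20 993 12 (by decide) tyz12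

theorem ln12 : (sqrts (gE core 993)).card = 0 := by
  have h1 := sqrts_mul (gE core 993)
  rw [tz12] at h1
  have h2 : (∑ i : Fin 21, if sqF i = (⟨12, by decide⟩ : Fin 21) then mF i else 0) =
      0 * mF ⟨12, by decide⟩ := by decide
  rw [h2] at h1
  have hpos : 0 < mF ⟨12, by decide⟩ := by decide
  exact Nat.eq_of_mul_eq_mul_right hpos h1

theorem col12 (i : Fin 21) : rhoF ⟨12, by decide⟩ < rhoF i ∨ (⟨12, by decide⟩ : Fin 21) = 0 ∨
    Even (roots tyG i (tG ⟨12, by decide⟩) 0).card := by
  have hb : rhoF ⟨12, by decide⟩ < rhoF i ∨ Nat.testBit 0 i.val = false := by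
    revert i
    decide
  rcases hb with hb | hb
  · exact Or.inl hb
  · right; right
    have h1 := even_roots core dC.bs hbs 993 (by decide) dCodes dDs 20 25 (by decide) dL12 0 72057594037927936
      root12 (by rw [len12, ln12]) i (by rw [Nat.eq_of_beq_eq_true par12]; exact hb)
    have e : roots tyG i (tG ⟨12, by decide⟩) 0 =
        (sqrts (gE core 993)).filter (fun u => ty core dCodes dDs 20 (u * gE core 25) = i) := by
      unfold roots sqrts
      rw [Finset.filter_filter, z12, s12]
      rfl
    rw [e]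
    exact h1

theorem z13 : tG ⟨13, by decide⟩ ^ (2 * 2 + 1) = gE core 1009 := pow_of_type core typeOK13 _

theorem s13 : (tG ⟨13, by decide⟩ ^ 2)⁻¹ = gE core 1004 := inv_pow_of_type core typeOK13 2 (by decide)

theorem tz13 : tyG (gE core 1009) = ⟨1, by decide⟩ := ty_of_chk core dCodes dDs 20 1009 1 (by decide) tyz13

theorem ln13 : (sqrts (gE core 1009)).card = 80 := by
  have h1 := sqrts_mul (gE core 1009)
  rw [tz13] at h1
  have h2 : (∑ i : Fin 21, if sqF i = (⟨1, by decide⟩ : Fin 21) then mF i else 0) =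
      80 * mF ⟨1, by decide⟩ := by decide
  rw [h2] at h1
  have hpos : 0 < mF ⟨1, by decide⟩ := by decide
  exact Nat.eq_of_mul_eq_mul_right hpos h1

theorem col13 (i : Fin 21) : rhoF ⟨13, by decide⟩ < rhoF i ∨ (⟨13, by decide⟩ : Fin 21) = 0 ∨
    Even (roots tyG i (tG ⟨13, by decide⟩) 2).card := by
  have hb : rhoF ⟨13, by decide⟩ < rhoF i ∨ Nat.testBit 0 i.val = false := by
    revert i
    decide
  rcases hb with hb | hb
  · exact Or.inl hb
  · right; right
    have h1 := even_roots core dC.bs hbs 1009 (by decide) dCodes dDs 20 1004 (by decide) dL13 0 72057594037927936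
      root13 (by rw [len13, ln13]) i (by rw [Nat.eq_of_beq_eq_true par13]; exact hb)
    have e : roots tyG i (tG ⟨13, by decide⟩) 2 =
        (sqrts (gE core 1009)).filter (fun u => ty core dCodes dDs 20 (u * gE core 1004) = i) := by
      unfold roots sqrts
      rw [Finset.filter_filter, z13, s13]
      rfl
    rw [e]
    exact h1

theorem z14 : tG ⟨14, by decide⟩ ^ (2 * 5 + 1) = gE core 25 := pow_of_type core typeOK14 _

theorem s14 : (tG ⟨14, by decide⟩ ^ 5)⁻¹ = gE core 1021 := inv_pow_of_type core typeOK14 5 (by decide)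

theorem parS14 : parG dD (tget dS.tree) dCodes dDs 20 (tget dD.tree 1021) (rangeL 0 (32 * 1352)) = 66 := by
  have h1 := parG_chunks (D := dD) (tget dS.tree) dCodes dDs 20 (tget dD.tree 1021) 1352 (nthN [2176, 1131864, 1159232, 1289712, 710544, 493536, 986152, 212760, 147840, 1044712, 1671808, 1479592, 1864544, 1337962, 527458, 1718248, 832930, 892160, 1750848, 1170848, 1940898, 1111842, 882626, 1589232, 1222784, 1901730, 1983192, 314032, 832536, 1550688, 227882, 1413698]) 32 (by
    intro q hq
    interval_cases q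
    · show _ = 2176
      have h := Nat.eq_of_beq_eq_true parS14_0
      exact h
    · show _ = 1131864
      have h := Nat.eq_of_beq_eq_true parS14_1
      exact h
    · show _ = 1159232
      have h := Nat.eq_of_beq_eq_true parS14_2
      exact h
    · show _ = 1289712
      have h := Nat.eq_of_beq_eq_true parS14_3
      exact h
    · show _ = 710544
      have h := Nat.eq_of_beq_eq_true parS14_4
      exact h
    · show _ = 493536
      have h := Nat.eq_of_beq_eq_true parS14_5
      exact h
    · show _ = 986152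
      have h := Nat.eq_of_beq_eq_true parS14_6
      exact h
    · show _ = 212760
      have h := Nat.eq_of_beq_eq_true parS14_7
      exact h
    · show _ = 147840
      have h := Nat.eq_of_beq_eq_true parS14_8
      exact h
    · show _ = 1044712
      have h := Nat.eq_of_beq_eq_true parS14_9
      exact h
    · show _ = 1671808
      have h := Nat.eq_of_beq_eq_true parS14_10
      exact h
    · show _ = 1479592
      have h := Nat.eq_of_beq_eq_true parS14_11
      exact h
    · show _ = 1864544
      have h := Nat.eq_of_beq_eq_true parS14_12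
      exact h
    · show _ = 1337962
      have h := Nat.eq_of_beq_eq_true parS14_13
      exact h
    · show _ = 527458
      have h := Nat.eq_of_beq_eq_true parS14_14
      exact h
    · show _ = 1718248
      have h := Nat.eq_of_beq_eq_true parS14_15
      exact h
    · show _ = 832930
      have h := Nat.eq_of_beq_eq_true parS14_16
      exact h
    · show _ = 892160
      have h := Nat.eq_of_beq_eq_true parS14_17
      exact h
    · show _ = 1750848
      have h := Nat.eq_of_beq_eq_true parS14_18
      exact h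
    · show _ = 1170848
      have h := Nat.eq_of_beq_eq_true parS14_19
      exact h
    · show _ = 1940898
      have h := Nat.eq_of_beq_eq_true parS14_20
      exact h
    · show _ = 1111842
      have h := Nat.eq_of_beq_eq_true parS14_21
      exact h
    · show _ = 882626
      have h := Nat.eq_of_beq_eq_true parS14_22
      exact h
    · show _ = 1589232
      have h := Nat.eq_of_beq_eq_true parS14_23
      exact h
    · show _ = 1222784
      have h := Nat.eq_of_beq_eq_true parS14_24
      exact h
    · show _ = 1901730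
      have h := Nat.eq_of_beq_eq_true parS14_25
      exact h
    · show _ = 1983192
      have h := Nat.eq_of_beq_eq_true parS14_26
      exact h
    · show _ = 314032
      have h := Nat.eq_of_beq_eq_true parS14_27
      exact h
    · show _ = 832536
      have h := Nat.eq_of_beq_eq_true parS14_28
      exact h
    · show _ = 1550688
      have h := Nat.eq_of_beq_eq_true parS14_29
      exact h
    · show _ = 227882
      have h := Nat.eq_of_beq_eq_true parS14_30
      exact h
    · show _ = 1413698
      have h := Nat.eq_of_beq_eq_true parS14_31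
      exact h
    )
  rw [h1]
  decide +kernel

theorem col14 (i : Fin 21) : rhoF ⟨14, by decide⟩ < rhoF i ∨ (⟨14, by decide⟩ : Fin 21) = 0 ∨
    Even (roots tyG i (tG ⟨14, by decide⟩) 5).card := by
  have hb : rhoF ⟨14, by decide⟩ < rhoF i ∨ Nat.testBit 66 i.val = false := by
    revert i
    decide
  rcases hb with hb | hb
  · exact Or.inl hb
  · right; right
    have h1 := even_rootsG core (tget dS.tree) dS.c elS hcompS dC.bs hbs 25 (by decide) dCodes dDs 20
      1021 (by decide) (rangeL 0 (32 * 1352)) (bdF 0) (bdF 32) rootS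
      (by rw [length_rangeL, lnS]) i (by rw [parS14]; exact hb)
    have e : roots tyG i (tG ⟨14, by decide⟩) 5 =
        (sqrts (gE core 25)).filter (fun u => ty core dCodes dDs 20 (u * gE core 1021) = i) := by
      unfold roots sqrts
      rw [Finset.filter_filter, z14, s14]
      rfl
    rw [e]
    exact h1

theorem z15 : tG ⟨15, by decide⟩ ^ (2 * 1 + 1) = gE core 1028 := pow_of_type core typeOK15 _

theorem s15 : (tG ⟨15, by decide⟩ ^ 1)⁻¹ = gE core 1025 := inv_pow_of_type core typeOK15 1 (by decide)

theorem tz15 : tyG (gE core 1028) = ⟨5, by decide⟩ := ty_of_chk core dCodes dDs 20 1028 5 (by decide) tyz15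

theorem ln15 : (sqrts (gE core 1028)).card = 0 := by
  have h1 := sqrts_mul (gE core 1028)
  rw [tz15] at h1
  have h2 : (∑ i : Fin 21, if sqF i = (⟨5, by decide⟩ : Fin 21) then mF i else 0) =
      0 * mF ⟨5, by decide⟩ := by decide
  rw [h2] at h1
  have hpos : 0 < mF ⟨5, by decide⟩ := by decide
  exact Nat.eq_of_mul_eq_mul_right hpos h1

theorem col15 (i : Fin 21) : rhoF ⟨15, by decide⟩ < rhoF i ∨ (⟨15, by decide⟩ : Fin 21) = 0 ∨
    Even (roots tyG i (tG ⟨15, by decide⟩) 1).card := by
  have hb : rhoF ⟨15, by decide⟩ < rhoF i ∨ Nat.testBit 0 i.val = false := by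
    revert i
    decide
  rcases hb with hb | hb
  · exact Or.inl hb
  · right; right
    have h1 := even_roots core dC.bs hbs 1028 (by decide) dCodes dDs 20 1025 (by decide) dL15 0 72057594037927936
      root15 (by rw [len15, ln15]) i (by rw [Nat.eq_of_beq_eq_true par15]; exact hb)
    have e : roots tyG i (tG ⟨15, by decide⟩) 1 =
        (sqrts (gE core 1028)).filter (fun u => ty core dCodes dDs 20 (u * gE core 1025) = i) := by
      unfold roots sqrts
      rw [Finset.filter_filter, z15, s15]
      rfl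
    rw [e]
    exact h1

theorem z16 : tG ⟨16, by decide⟩ ^ (2 * 1 + 1) = gE core 1040 := pow_of_type core typeOK16 _

theorem s16 : (tG ⟨16, by decide⟩ ^ 1)⁻¹ = gE core 1037 := inv_pow_of_type core typeOK16 1 (by decide)

theorem tz16 : tyG (gE core 1040) = ⟨6, by decide⟩ := ty_of_chk core dCodes dDs 20 1040 6 (by decide) tyz16

theorem ln16 : (sqrts (gE core 1040)).card = 0 := by
  have h1 := sqrts_mul (gE core 1040)
  rw [tz16] at h1
  have h2 : (∑ i : Fin 21, if sqF i = (⟨6, by decide⟩ : Fin 21) then mF i else 0) =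
      0 * mF ⟨6, by decide⟩ := by decide
  rw [h2] at h1
  have hpos : 0 < mF ⟨6, by decide⟩ := by decide
  exact Nat.eq_of_mul_eq_mul_right hpos h1

theorem col16 (i : Fin 21) : rhoF ⟨16, by decide⟩ < rhoF i ∨ (⟨16, by decide⟩ : Fin 21) = 0 ∨
    Even (roots tyG i (tG ⟨16, by decide⟩) 1).card := by
  have hb : rhoF ⟨16, by decide⟩ < rhoF i ∨ Nat.testBit 0 i.val = false := by
    revert i
    decide
  rcases hb with hb | hb
  · exact Or.inl hb
  · right; right
    have h1 := even_roots core dC.bs hbs 1040 (by decide) dCodes dDs 20 1037 (by decide) dL16 0 72057594037927936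
      root16 (by rw [len16, ln16]) i (by rw [Nat.eq_of_beq_eq_true par16]; exact hb)
    have e : roots tyG i (tG ⟨16, by decide⟩) 1 =
        (sqrts (gE core 1040)).filter (fun u => ty core dCodes dDs 20 (u * gE core 1037) = i) := by
      unfold roots sqrts
      rw [Finset.filter_filter, z16, s16]
      rfl
    rw [e]
    exact h1

theorem z17 : tG ⟨17, by decide⟩ ^ (2 * 3 + 1) = gE core 1060 := pow_of_type core typeOK17 _

theorem s17 : (tG ⟨17, by decide⟩ ^ 3)⁻¹ = gE core 1053 := inv_pow_of_type core typeOK17 3 (by decide)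

theorem tz17 : tyG (gE core 1060) = ⟨2, by decide⟩ := ty_of_chk core dCodes dDs 20 1060 2 (by decide) tyz17

theorem ln17 : (sqrts (gE core 1060)).card = 224 := by
  have h1 := sqrts_mul (gE core 1060)
  rw [tz17] at h1
  have h2 : (∑ i : Fin 21, if sqF i = (⟨2, by decide⟩ : Fin 21) then mF i else 0) =
      224 * mF ⟨2, by decide⟩ := by decide
  rw [h2] at h1
  have hpos : 0 < mF ⟨2, by decide⟩ := by decide
  exact Nat.eq_of_mul_eq_mul_right hpos h1

theorem col17 (i : Fin 21) : rhoF ⟨17, by decide⟩ < rhoF i ∨ (⟨17, by decide⟩ : Fin 21) = 0 ∨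
    Even (roots tyG i (tG ⟨17, by decide⟩) 3).card := by
  have hb : rhoF ⟨17, by decide⟩ < rhoF i ∨ Nat.testBit 1232 i.val = false := by
    revert i
    decide
  rcases hb with hb | hb
  · exact Or.inl hb
  · right; right
    have h1 := even_roots core dC.bs hbs 1060 (by decide) dCodes dDs 20 1053 (by decide) dL17 0 72057594037927936
      root17 (by rw [len17, ln17]) i (by rw [Nat.eq_of_beq_eq_true par17]; exact hb)
    have e : roots tyG i (tG ⟨17, by decide⟩) 3 =
        (sqrts (gE core 1060)).filter (fun u => ty core dCodes dDs 20 (u * gE core 1053) = i) := by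
      unfold roots sqrts
      rw [Finset.filter_filter, z17, s17]
      rfl
    rw [e]
    exact h1

theorem z18 : tG ⟨18, by decide⟩ ^ (2 * 7 + 1) = gE core 25 := pow_of_type core typeOK18 _

theorem s18 : (tG ⟨18, by decide⟩ ^ 7)⁻¹ = gE core 1074 := inv_pow_of_type core typeOK18 7 (by decide)

theorem parS18 : parG dD (tget dS.tree) dCodes dDs 20 (tget dD.tree 1074) (rangeL 0 (32 * 1352)) = 0 := by
  have h1 := parG_chunks (D := dD) (tget dS.tree) dCodes dDs 20 (tget dD.tree 1074) 1352 (nthN [263288, 55456, 448872, 333824, 487048, 21760, 694624, 35104, 1792992, 278600, 599384, 264512, 974968, 17720, 803464, 1058240, 1025320, 1965672, 824056, 187336, 416304, 221952, 1955360, 1682440, 1110216, 1072464, 484512, 1071672, 1899000, 572728, 1159464, 390208]) 32 (by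
    intro q hq
    interval_cases q
    · show _ = 263288
      have h := Nat.eq_of_beq_eq_true parS18_0
      exact h
    · show _ = 55456
      have h := Nat.eq_of_beq_eq_true parS18_1
      exact h
    · show _ = 448872
      have h := Nat.eq_of_beq_eq_true parS18_2
      exact h
    · show _ = 333824
      have h := Nat.eq_of_beq_eq_true parS18_3
      exact h
    · show _ = 487048
      have h := Nat.eq_of_beq_eq_true parS18_4
      exact h
    · show _ = 21760
      have h := Nat.eq_of_beq_eq_true parS18_5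
      exact h
    · show _ = 694624
      have h := Nat.eq_of_beq_eq_true parS18_6
      exact h
    · show _ = 35104
      have h := Nat.eq_of_beq_eq_true parS18_7
      exact h
    · show _ = 1792992
      have h := Nat.eq_of_beq_eq_true parS18_8
      exact h
    · show _ = 278600
      have h := Nat.eq_of_beq_eq_true parS18_9
      exact h
    · show _ = 599384
      have h := Nat.eq_of_beq_eq_true parS18_10
      exact h
    · show _ = 264512
      have h := Nat.eq_of_beq_eq_true parS18_11
      exact h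
    · show _ = 974968
      have h := Nat.eq_of_beq_eq_true parS18_12
      exact h
    · show _ = 17720
      have h := Nat.eq_of_beq_eq_true parS18_13
      exact h
    · show _ = 803464
      have h := Nat.eq_of_beq_eq_true parS18_14
      exact h
    · show _ = 1058240
      have h := Nat.eq_of_beq_eq_true parS18_15
      exact h
    · show _ = 1025320
      have h := Nat.eq_of_beq_eq_true parS18_16
      exact h
    · show _ = 1965672
      have h := Nat.eq_of_beq_eq_true parS18_17
      exact h
    · show _ = 824056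
      have h := Nat.eq_of_beq_eq_true parS18_18
      exact h
    · show _ = 187336
      have h := Nat.eq_of_beq_eq_true parS18_19
      exact h
    · show _ = 416304
      have h := Nat.eq_of_beq_eq_true parS18_20
      exact h
    · show _ = 221952
      have h := Nat.eq_of_beq_eq_true parS18_21
      exact h
    · show _ = 1955360
      have h := Nat.eq_of_beq_eq_true parS18_22
      exact h
    · show _ = 1682440
      have h := Nat.eq_of_beq_eq_true parS18_23
      exact h
    · show _ = 1110216
      have h := Nat.eq_of_beq_eq_true parS18_24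
      exact h
    · show _ = 1072464
      have h := Nat.eq_of_beq_eq_true parS18_25
      exact h
    · show _ = 484512
      have h := Nat.eq_of_beq_eq_true parS18_26
      exact h
    · show _ = 1071672
      have h := Nat.eq_of_beq_eq_true parS18_27
      exact h
    · show _ = 1899000
      have h := Nat.eq_of_beq_eq_true parS18_28
      exact h
    · show _ = 572728
      have h := Nat.eq_of_beq_eq_true parS18_29
      exact h
    · show _ = 1159464
      have h := Nat.eq_of_beq_eq_true parS18_30
      exact h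
    · show _ = 390208
      have h := Nat.eq_of_beq_eq_true parS18_31
      exact h
    )
  rw [h1]
  decide +kernel

theorem col18 (i : Fin 21) : rhoF ⟨18, by decide⟩ < rhoF i ∨ (⟨18, by decide⟩ : Fin 21) = 0 ∨
    Even (roots tyG i (tG ⟨18, by decide⟩) 7).card := by
  have hb : rhoF ⟨18, by decide⟩ < rhoF i ∨ Nat.testBit 0 i.val = false := by
    revert i
    decide
  rcases hb with hb | hb
  · exact Or.inl hb
  · right; right
    have h1 := even_rootsG core (tget dS.tree) dS.c elS hcompS dC.bs hbs 25 (by decide) dCodes dDs 20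
      1074 (by decide) (rangeL 0 (32 * 1352)) (bdF 0) (bdF 32) rootS
      (by rw [length_rangeL, lnS]) i (by rw [parS18]; exact hb)
    have e : roots tyG i (tG ⟨18, by decide⟩) 7 =
        (sqrts (gE core 25)).filter (fun u => ty core dCodes dDs 20 (u * gE core 1074) = i) := by
      unfold roots sqrts
      rw [Finset.filter_filter, z18, s18]
      rfl
    rw [e]
    exact h1

theorem z19 : tG ⟨19, by decide⟩ ^ (2 * 10 + 1) = gE core 25 := pow_of_type core typeOK19 _

theorem s19 : (tG ⟨19, by decide⟩ ^ 10)⁻¹ = gE core 1096 := inv_pow_of_type core typeOK19 10 (by decide)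

theorem parS19 : parG dD (tget dS.tree) dCodes dDs 20 (tget dD.tree 1096) (rangeL 0 (32 * 1352)) = 1232 := by
  have h1 := parG_chunks (D := dD) (tget dS.tree) dCodes dDs 20 (tget dD.tree 1096) 1352 (nthN [1315208, 1388288, 98184, 1202432, 1199232, 948032, 864592, 1537712, 1055376, 342984, 1645832, 1795872, 1207760, 564784, 1557488, 881920, 645840, 1562672, 663024, 549888, 299120, 758640, 2010736, 1323672, 434112, 2056304, 1803928, 1355040, 267168, 759744, 1399096, 1479480]) 32 (by
    intro q hq
    interval_cases q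
    · show _ = 1315208
      have h := Nat.eq_of_beq_eq_true parS19_0
      exact h
    · show _ = 1388288
      have h := Nat.eq_of_beq_eq_true parS19_1
      exact h
    · show _ = 98184
      have h := Nat.eq_of_beq_eq_true parS19_2
      exact h
    · show _ = 1202432
      have h := Nat.eq_of_beq_eq_true parS19_3
      exact h
    · show _ = 1199232
      have h := Nat.eq_of_beq_eq_true parS19_4
      exact h
    · show _ = 948032
      have h := Nat.eq_of_beq_eq_true parS19_5
      exact h
    · show _ = 864592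
      have h := Nat.eq_of_beq_eq_true parS19_6
      exact h
    · show _ = 1537712
      have h := Nat.eq_of_beq_eq_true parS19_7
      exact h
    · show _ = 1055376
      have h := Nat.eq_of_beq_eq_true parS19_8
      exact h
    · show _ = 342984
      have h := Nat.eq_of_beq_eq_true parS19_9
      exact h
    · show _ = 1645832
      have h := Nat.eq_of_beq_eq_true parS19_10
      exact h
    · show _ = 1795872
      have h := Nat.eq_of_beq_eq_true parS19_11
      exact h
    · show _ = 1207760
      have h := Nat.eq_of_beq_eq_true parS19_12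
      exact h
    · show _ = 564784
      have h := Nat.eq_of_beq_eq_true parS19_13
      exact h
    · show _ = 1557488
      have h := Nat.eq_of_beq_eq_true parS19_14
      exact h
    · show _ = 881920
      have h := Nat.eq_of_beq_eq_true parS19_15
      exact h
    · show _ = 645840
      have h := Nat.eq_of_beq_eq_true parS19_16
      exact h
    · show _ = 1562672
      have h := Nat.eq_of_beq_eq_true parS19_17
      exact h
    · show _ = 663024
      have h := Nat.eq_of_beq_eq_true parS19_18
      exact h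
    · show _ = 549888
      have h := Nat.eq_of_beq_eq_true parS19_19
      exact h
    · show _ = 299120
      have h := Nat.eq_of_beq_eq_true parS19_20
      exact h
    · show _ = 758640
      have h := Nat.eq_of_beq_eq_true parS19_21
      exact h
    · show _ = 2010736
      have h := Nat.eq_of_beq_eq_true parS19_22
      exact h
    · show _ = 1323672
      have h := Nat.eq_of_beq_eq_true parS19_23
      exact h
    · show _ = 434112
      have h := Nat.eq_of_beq_eq_true parS19_24
      exact h
    · show _ = 2056304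
      have h := Nat.eq_of_beq_eq_true parS19_25
      exact h
    · show _ = 1803928
      have h := Nat.eq_of_beq_eq_true parS19_26
      exact h
    · show _ = 1355040
      have h := Nat.eq_of_beq_eq_true parS19_27
      exact h
    · show _ = 267168
      have h := Nat.eq_of_beq_eq_true parS19_28
      exact h
    · show _ = 759744
      have h := Nat.eq_of_beq_eq_true parS19_29
      exact h
    · show _ = 1399096
      have h := Nat.eq_of_beq_eq_true parS19_30
      exact h
    · show _ = 1479480
      have h := Nat.eq_of_beq_eq_true parS19_31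
      exact h
    )
  rw [h1]
  decide +kernel

theorem col19 (i : Fin 21) : rhoF ⟨19, by decide⟩ < rhoF i ∨ (⟨19, by decide⟩ : Fin 21) = 0 ∨
    Even (roots tyG i (tG ⟨19, by decide⟩) 10).card := by
  have hb : rhoF ⟨19, by decide⟩ < rhoF i ∨ Nat.testBit 1232 i.val = false := by
    revert i
    decide
  rcases hb with hb | hb
  · exact Or.inl hb
  · right; right
    have h1 := even_rootsG core (tget dS.tree) dS.c elS hcompS dC.bs hbs 25 (by decide) dCodes dDs 20
      1096 (by decide) (rangeL 0 (32 * 1352)) (bdF 0) (bdF 32) rootS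
      (by rw [length_rangeL, lnS]) i (by rw [parS19]; exact hb)
    have e : roots tyG i (tG ⟨19, by decide⟩) 10 =
        (sqrts (gE core 25)).filter (fun u => ty core dCodes dDs 20 (u * gE core 1096) = i) := by
      unfold roots sqrts
      rw [Finset.filter_filter, z19, s19]
      rfl
    rw [e]
    exact h1

theorem z20 : tG ⟨20, by decide⟩ ^ (2 * 11 + 1) = gE core 25 := pow_of_type core typeOK20 _

theorem s20 : (tG ⟨20, by decide⟩ ^ 11)⁻¹ = gE core 1120 := inv_pow_of_type core typeOK20 11 (by decide)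

theorem parS20 : parG dD (tget dS.tree) dCodes dDs 20 (tget dD.tree 1120) (rangeL 0 (32 * 1352)) = 1232 := by
  have h1 := parG_chunks (D := dD) (tget dS.tree) dCodes dDs 20 (tget dD.tree 1120) 1352 (nthN [136448, 1465472, 1740352, 685968, 929896, 110056, 1946272, 910200, 455112, 1800288, 120504, 1100232, 1527536, 644560, 383248, 1837056, 524824, 1883256, 2050464, 1378208, 1976160, 553232, 1754192, 666600, 391176, 1611496, 806264, 930672, 1814560, 1763200, 1946016, 727920]) 32 (by
    intro q hq
    interval_cases q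
    · show _ = 136448
      have h := Nat.eq_of_beq_eq_true parS20_0
      exact h
    · show _ = 1465472
      have h := Nat.eq_of_beq_eq_true parS20_1
      exact h
    · show _ = 1740352
      have h := Nat.eq_of_beq_eq_true parS20_2
      exact h
    · show _ = 685968
      have h := Nat.eq_of_beq_eq_true parS20_3
      exact h
    · show _ = 929896
      have h := Nat.eq_of_beq_eq_true parS20_4
      exact h
    · show _ = 110056
      have h := Nat.eq_of_beq_eq_true parS20_5
      exact h
    · show _ = 1946272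
      have h := Nat.eq_of_beq_eq_true parS20_6
      exact h
    · show _ = 910200
      have h := Nat.eq_of_beq_eq_true parS20_7
      exact h
    · show _ = 455112
      have h := Nat.eq_of_beq_eq_true parS20_8
      exact h
    · show _ = 1800288
      have h := Nat.eq_of_beq_eq_true parS20_9
      exact h
    · show _ = 120504
      have h := Nat.eq_of_beq_eq_true parS20_10
      exact h
    · show _ = 1100232
      have h := Nat.eq_of_beq_eq_true parS20_11
      exact h
    · show _ = 1527536
      have h := Nat.eq_of_beq_eq_true parS20_12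
      exact h
    · show _ = 644560
      have h := Nat.eq_of_beq_eq_true parS20_13
      exact h
    · show _ = 383248
      have h := Nat.eq_of_beq_eq_true parS20_14
      exact h
    · show _ = 1837056
      have h := Nat.eq_of_beq_eq_true parS20_15
      exact h
    · show _ = 524824
      have h := Nat.eq_of_beq_eq_true parS20_16
      exact h
    · show _ = 1883256
      have h := Nat.eq_of_beq_eq_true parS20_17
      exact h
    · show _ = 2050464
      have h := Nat.eq_of_beq_eq_true parS20_18
      exact h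
    · show _ = 1378208
      have h := Nat.eq_of_beq_eq_true parS20_19
      exact h
    · show _ = 1976160
      have h := Nat.eq_of_beq_eq_true parS20_20
      exact h
    · show _ = 553232
      have h := Nat.eq_of_beq_eq_true parS20_21
      exact h
    · show _ = 1754192
      have h := Nat.eq_of_beq_eq_true parS20_22
      exact h
    · show _ = 666600
      have h := Nat.eq_of_beq_eq_true parS20_23
      exact h
    · show _ = 391176
      have h := Nat.eq_of_beq_eq_true parS20_24
      exact h
    · show _ = 1611496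
      have h := Nat.eq_of_beq_eq_true parS20_25
      exact h
    · show _ = 806264
      have h := Nat.eq_of_beq_eq_true parS20_26
      exact h
    · show _ = 930672
      have h := Nat.eq_of_beq_eq_true parS20_27
      exact h
    · show _ = 1814560
      have h := Nat.eq_of_beq_eq_true parS20_28
      exact h
    · show _ = 1763200
      have h := Nat.eq_of_beq_eq_true parS20_29
      exact h
    · show _ = 1946016
      have h := Nat.eq_of_beq_eq_true parS20_30
      exact h
    · show _ = 727920
      have h := Nat.eq_of_beq_eq_true parS20_31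
      exact h
    )
  rw [h1]
  decide +kernel

theorem col20 (i : Fin 21) : rhoF ⟨20, by decide⟩ < rhoF i ∨ (⟨20, by decide⟩ : Fin 21) = 0 ∨
    Even (roots tyG i (tG ⟨20, by decide⟩) 11).card := by
  have hb : rhoF ⟨20, by decide⟩ < rhoF i ∨ Nat.testBit 1232 i.val = false := by
    revert i
    decide
  rcases hb with hb | hb
  · exact Or.inl hb
  · right; right
    have h1 := even_rootsG core (tget dS.tree) dS.c elS hcompS dC.bs hbs 25 (by decide) dCodes dDs 20
      1120 (by decide) (rangeL 0 (32 * 1352)) (bdF 0) (bdF 32) rootS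
      (by rw [length_rangeL, lnS]) i (by rw [parS20]; exact hb)
    have e : roots tyG i (tG ⟨20, by decide⟩) 11 =
        (sqrts (gE core 25)).filter (fun u => ty core dCodes dDs 20 (u * gE core 1120) = i) := by
      unfold roots sqrts
      rw [Finset.filter_filter, z20, s20]
      rfl
    rw [e]
    exact h1

theorem ord1 : tG ⟨1, by decide⟩ ^ (2 ^ 1 * (2 * 0 + 1)) = 1 := by
  have h1 : orderOf (tG ⟨1, by decide⟩) = 2 ^ 1 * (2 * 0 + 1) := type_order core typeOK1
  rw [← h1]
  exact pow_orderOf_eq_one _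

theorem ord2 : tG ⟨2, by decide⟩ ^ (2 ^ 1 * (2 * 0 + 1)) = 1 := by
  have h1 : orderOf (tG ⟨2, by decide⟩) = 2 ^ 1 * (2 * 0 + 1) := type_order core typeOK2
  rw [← h1]
  exact pow_orderOf_eq_one _

theorem ord3 : tG ⟨3, by decide⟩ ^ (2 ^ 0 * (2 * 1 + 1)) = 1 := by
  have h1 : orderOf (tG ⟨3, by decide⟩) = 2 ^ 0 * (2 * 1 + 1) := type_order core typeOK3
  rw [← h1]
  exact pow_orderOf_eq_one _

theorem ord4 : tG ⟨4, by decide⟩ ^ (2 ^ 0 * (2 * 1 + 1)) = 1 := by
  have h1 : orderOf (tG ⟨4, by decide⟩) = 2 ^ 0 * (2 * 1 + 1) := type_order core typeOK4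
  rw [← h1]
  exact pow_orderOf_eq_one _

theorem ord5 : tG ⟨5, by decide⟩ ^ (2 ^ 2 * (2 * 0 + 1)) = 1 := by
  have h1 : orderOf (tG ⟨5, by decide⟩) = 2 ^ 2 * (2 * 0 + 1) := type_order core typeOK5
  rw [← h1]
  exact pow_orderOf_eq_one _

theorem ord6 : tG ⟨6, by decide⟩ ^ (2 ^ 2 * (2 * 0 + 1)) = 1 := by
  have h1 : orderOf (tG ⟨6, by decide⟩) = 2 ^ 2 * (2 * 0 + 1) := type_order core typeOK6
  rw [← h1]
  exact pow_orderOf_eq_one _

theorem ord7 : tG ⟨7, by decide⟩ ^ (2 ^ 2 * (2 * 0 + 1)) = 1 := by
  have h1 : orderOf (tG ⟨7, by decide⟩) = 2 ^ 2 * (2 * 0 + 1) := type_order core typeOK7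
  rw [← h1]
  exact pow_orderOf_eq_one _

theorem ord8 : tG ⟨8, by decide⟩ ^ (2 ^ 0 * (2 * 2 + 1)) = 1 := by
  have h1 : orderOf (tG ⟨8, by decide⟩) = 2 ^ 0 * (2 * 2 + 1) := type_order core typeOK8
  rw [← h1]
  exact pow_orderOf_eq_one _

theorem ord9 : tG ⟨9, by decide⟩ ^ (2 ^ 1 * (2 * 1 + 1)) = 1 := by
  have h1 : orderOf (tG ⟨9, by decide⟩) = 2 ^ 1 * (2 * 1 + 1) := type_order core typeOK9
  rw [← h1]
  exact pow_orderOf_eq_one _

theorem ord10 : tG ⟨10, by decide⟩ ^ (2 ^ 1 * (2 * 1 + 1)) = 1 := by
  have h1 : orderOf (tG ⟨10, by decide⟩) = 2 ^ 1 * (2 * 1 + 1) := type_order core typeOK10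
  rw [← h1]
  exact pow_orderOf_eq_one _

theorem ord11 : tG ⟨11, by decide⟩ ^ (2 ^ 0 * (2 * 3 + 1)) = 1 := by
  have h1 : orderOf (tG ⟨11, by decide⟩) = 2 ^ 0 * (2 * 3 + 1) := type_order core typeOK11
  rw [← h1]
  exact pow_orderOf_eq_one _

theorem ord12 : tG ⟨12, by decide⟩ ^ (2 ^ 3 * (2 * 0 + 1)) = 1 := by
  have h1 : orderOf (tG ⟨12, by decide⟩) = 2 ^ 3 * (2 * 0 + 1) := type_order core typeOK12
  rw [← h1]
  exact pow_orderOf_eq_one _

theorem ord13 : tG ⟨13, by decide⟩ ^ (2 ^ 1 * (2 * 2 + 1)) = 1 := by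
  have h1 : orderOf (tG ⟨13, by decide⟩) = 2 ^ 1 * (2 * 2 + 1) := type_order core typeOK13
  rw [← h1]
  exact pow_orderOf_eq_one _

theorem ord14 : tG ⟨14, by decide⟩ ^ (2 ^ 0 * (2 * 5 + 1)) = 1 := by
  have h1 : orderOf (tG ⟨14, by decide⟩) = 2 ^ 0 * (2 * 5 + 1) := type_order core typeOK14
  rw [← h1]
  exact pow_orderOf_eq_one _

theorem ord15 : tG ⟨15, by decide⟩ ^ (2 ^ 2 * (2 * 1 + 1)) = 1 := by
  have h1 : orderOf (tG ⟨15, by decide⟩) = 2 ^ 2 * (2 * 1 + 1) := type_order core typeOK15
  rw [← h1]
  exact pow_orderOf_eq_one _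

theorem ord16 : tG ⟨16, by decide⟩ ^ (2 ^ 2 * (2 * 1 + 1)) = 1 := by
  have h1 : orderOf (tG ⟨16, by decide⟩) = 2 ^ 2 * (2 * 1 + 1) := type_order core typeOK16
  rw [← h1]
  exact pow_orderOf_eq_one _

theorem ord17 : tG ⟨17, by decide⟩ ^ (2 ^ 1 * (2 * 3 + 1)) = 1 := by
  have h1 : orderOf (tG ⟨17, by decide⟩) = 2 ^ 1 * (2 * 3 + 1) := type_order core typeOK17
  rw [← h1]
  exact pow_orderOf_eq_one _

theorem ord18 : tG ⟨18, by decide⟩ ^ (2 ^ 0 * (2 * 7 + 1)) = 1 := by
  have h1 : orderOf (tG ⟨18, by decide⟩) = 2 ^ 0 * (2 * 7 + 1) := type_order core typeOK18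
  rw [← h1]
  exact pow_orderOf_eq_one _

theorem ord19 : tG ⟨19, by decide⟩ ^ (2 ^ 0 * (2 * 10 + 1)) = 1 := by
  have h1 : orderOf (tG ⟨19, by decide⟩) = 2 ^ 0 * (2 * 10 + 1) := type_order core typeOK19
  rw [← h1]
  exact pow_orderOf_eq_one _

theorem ord20 : tG ⟨20, by decide⟩ ^ (2 ^ 0 * (2 * 11 + 1)) = 1 := by
  have h1 : orderOf (tG ⟨20, by decide⟩) = 2 ^ 0 * (2 * 11 + 1) := type_order core typeOK20
  rw [← h1]
  exact pow_orderOf_eq_one _

theorem hord : ∀ k : Fin 21, tG k ^ (2 ^ aF k * (2 * eF k + 1)) = 1 := by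
  intro k
  fin_cases k
  · show tG 0 ^ _ = 1
    rw [tG0, one_pow]
  · exact ord1
  · exact ord2
  · exact ord3
  · exact ord4
  · exact ord5
  · exact ord6
  · exact ord7
  · exact ord8
  · exact ord9
  · exact ord10
  · exact ord11
  · exact ord12
  · exact ord13
  · exact ord14
  · exact ord15
  · exact ord16
  · exact ord17
  · exact ord18
  · exact ord19
  · exact ord20

theorem hpar : ∀ i k : Fin 21, rhoF k < rhoF i ∨ k = 0 ∨ Even (roots tyG i (tG k) (eF k)).card := by
  intro i k
  fin_cases k
  · exact Or.inr (Or.inl rfl)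
  · exact col1 i
  · exact col2 i
  · exact col3 i
  · exact col4 i
  · exact col5 i
  · exact col6 i
  · exact col7 i
  · exact col8 i
  · exact col9 i
  · exact col10 i
  · exact col11 i
  · exact col12 i
  · exact col13 i
  · exact col14 i
  · exact col15 i
  · exact col16 i
  · exact col17 i
  · exact col18 i
  · exact col19 i
  · exact col20 i


/-- all irreducible characters of the group of the tables lie in one 2-block. -/
theorem sameBlock_GS (M : Ideal Cfsg.AlgInt) (hM : Cfsg.IsPModular 2 M)
    (χ ψ : Cfsg.IrrCharacter ↥(GS core)) :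
    Cfsg.SameBlock M (χ : ↥(GS core) → ℂ) (ψ : ↥(GS core) → ℂ) :=
  sameBlock_of_roots tyG tG tyG_conj tyG_inv hcover hM 0 h0 rhoF aF eF hord hpar χ ψ

/-- all irreducible characters of the Mathieu group lie in one 2-block. -/
theorem sameBlock_spor (M : Ideal Cfsg.AlgInt) (hM : Cfsg.IsPModular 2 M)
    (χ ψ : Cfsg.IrrCharacter ↥Cfsg.M24) :
    Cfsg.SameBlock M (χ : ↥Cfsg.M24 → ℂ) (ψ : ↥Cfsg.M24 → ℂ) := by
  have : Finite ↥Cfsg.M24 := Finite.of_equiv _ GSEquivM24.toEquiv
  have h1 := sameBlock_GS M hM
    ⟨fun x => (χ : ↥Cfsg.M24 → ℂ) (GSEquivM24 x), Cfsg.Agent.Helper6.IsIrrCharacter.comp_mulEquiv GSEquivM24 χ.2⟩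
    ⟨fun x => (ψ : ↥Cfsg.M24 → ℂ) (GSEquivM24 x), Cfsg.Agent.Helper6.IsIrrCharacter.comp_mulEquiv GSEquivM24 ψ.2⟩
  have h2 := Cfsg.Agent.Helper6.sameBlock_comp_mulEquiv (M := M) GSEquivM24.symm _ _ h1
  have e : ∀ θ : ↥Cfsg.M24 → ℂ, (fun x => (fun y => θ (GSEquivM24 y)) (GSEquivM24.symm x)) = θ := by
    intro θ
    funext x
    simp
  rw [e, e] at h2
  exact h2

end Cfsg.Agent.Helper3.M24B

end
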